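import Cfsg.Agent.OddCyclic.EmpN.Coord
import Cfsg.Agent.OddCyclic.RedSevenX
import Cfsg.Agent.TwoFusion.SLTwoFacts

/-!
# (Empty)-III, section 7: torus elements

* `not_dvd_ker`: `K` with cyclic odd Sylow subgroups, `r : K →* H`, `L = [L, L] ≤ r(K)`, `p ∣ |L|` odd: `p ∤ |ker r|`;
* `NF.tor`: some `n ∈ N_G(V)` with `n ^ (q - 1) = 1` induces `diag(l, l⁻¹)`.
-/

set_option autoImplicit false
set_option linter.unusedSectionVars false

namespace Cfsg.Agent.OddCyclic.EmpN

open Subgroup Cfsg Cfsg.Agent.ZN Cfsg.Agent.ZN.ChoiceBase Cfsg.Agent.ZN.ChoiceSit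
open Cfsg.Agent.MinSimple.EmptyE.Closed (LL CC vv_comm vv_sq vv_mul_self vv_inv
  isPGroup_vv vv_le_jj vv_le jj_le_centralizer_vv conj_mem_vv cj_vv)
open Cfsg.Agent.OddCyclic.EmpFrame
open Cfsg.Agent.OddCyclic.T1Defs (OddCyc)
open Cfsg.Agent.Omega.NatPair Cfsg.Agent.Lib.SL2Mat
open scoped commutatorElement

universe u

/-- an odd prime dividing the order of a perfect section does not divide the order of the kernel -/
theorem not_dvd_ker {K H : Type*} [Group K] [Finite K] [Group H] (hc : OddCyc K) (r : K →* H) {L : Subgroup H}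
    (hL : L ≤ r.range) (hLL : ⁅L, L⁆ = L) {p : ℕ} (hp : p.Prime) (hp2 : p ≠ 2) (hpL : p ∣ Nat.card L) :
    ¬ p ∣ Nat.card r.ker := by
  intro hk
  have hpf : Fact p.Prime := ⟨hp⟩
  obtain ⟨P₀⟩ : Nonempty (Sylow p r.ker) := inferInstance
  set R : Subgroup K := (P₀ : Subgroup r.ker).map r.ker.subtype with hR
  have hfr : normalizer (R : Set K) ⊔ r.ker = ⊤ := Sylow.normalizer_sup_eq_top P₀
  have hRp : IsPGroup p R := P₀.isPGroup'.map _
  have hRc : IsCyclic R := CompBasic.isCyclic_of_isPGroup hc hp hp2 hRp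
  have hRk : R ≤ r.ker := by
    rintro _ ⟨x, -, rfl⟩
    exact x.2
  obtain ⟨x, hxR, hx⟩ : ∃ x ∈ R, orderOf x = p := by
    have h1 : p ∣ Nat.card R := by
      rw [hR, Subgroup.card_map_of_injective r.ker.subtype_injective]
      exact P₀.dvd_card_of_dvd_card hk
    obtain ⟨x, hx⟩ := exists_prime_orderOf_dvd_card' p h1
    exact ⟨x, x.2, by rw [Subgroup.orderOf_coe]; exact hx⟩
  -- commutators of `N(R)` centralise `R`
  have hcom : ∀ a ∈ normalizer (R : Set K), ∀ b ∈ normalizer (R : Set K), ⁅a, b⁆ ∈ centralizer (R : Set K) := by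
    intro a ha b hb
    have hn : (R.subgroupOf (normalizer (R : Set K))).Normal := inferInstance
    have hcy : IsCyclic (R.subgroupOf (normalizer (R : Set K))) :=
      isCyclic_of_injective (subgroupOfEquivOfLe (Subgroup.le_normalizer (H := R))).toMonoidHom
        (subgroupOfEquivOfLe (Subgroup.le_normalizer (H := R))).injective
    have h1 := COneOdd.commutator_le_centralizer hcy
      (commutator_mem_commutator (mem_top (⟨a, ha⟩ : normalizer (R : Set K))) (mem_top (⟨b, hb⟩ : normalizer (R : Set K))))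
    rw [mem_centralizer_iff] at h1 ⊢
    intro y hy
    have h2 := h1 ⟨y, Subgroup.le_normalizer hy⟩ (mem_subgroupOf.2 hy)
    exact congrArg Subtype.val h2
  set W : Subgroup K := normalizer (R : Set K) ⊓ L.comap r with hW
  have hWL : W.map r = L := by
    apply le_antisymm
    · rintro _ ⟨g, hg, rfl⟩
      exact hg.2
    · intro l hl
      obtain ⟨k, rfl⟩ := hL hl
      obtain ⟨n, hn, c, hcc, rfl⟩ := mem_sup_of_normal_right.1 (by rw [hfr]; exact mem_top k : k ∈ normalizer (R : Set K) ⊔ r.ker)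
      rw [map_mul, MonoidHom.mem_ker.1 hcc, mul_one] at hl ⊢
      exact ⟨n, mem_inf.2 ⟨hn, hl⟩, rfl⟩
  set E : Subgroup K := centralizer (R : Set K) ⊓ L.comap r with hE
  have hxE : x ∈ E := by
    refine mem_inf.2 ⟨?_, ?_⟩
    · rw [mem_centralizer_iff]
      intro y hy
      have h1 : ∀ a b : R, a * b = b * a := fun a b => by
        obtain ⟨g, hg⟩ := hRc.exists_generator
        obtain ⟨m, rfl⟩ := Subgroup.mem_zpowers_iff.mp (hg a)
        obtain ⟨n, rfl⟩ := Subgroup.mem_zpowers_iff.mp (hg b)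
        rw [← zpow_add, ← zpow_add, add_comm]
      exact congrArg Subtype.val (h1 ⟨y, hy⟩ ⟨x, hxR⟩)
    · rw [mem_comap, MonoidHom.mem_ker.1 (hRk hxR)]
      exact one_mem _
  have hEL : E.map r = L := by
    apply le_antisymm
    · rintro _ ⟨g, hg, rfl⟩
      exact hg.2
    · have h1 : ⁅W, W⁆ ≤ E := by
        refine le_inf ?_ ?_
        · rw [commutator_le]
          intro a ha b hb
          exact hcom a ha.1 b hb.1
        · rw [commutator_le]
          intro a ha b hb
          rw [mem_comap, map_commutatorElement]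
          have := commutator_mem_commutator (H₁ := L) (H₂ := L) ha.2 hb.2
          rwa [hLL] at this
      have h2 := Subgroup.map_mono (f := r) h1
      rwa [map_commutator, hWL, hLL] at h2
  have hcE : OddCyc E := CompBasic.oddCyc_subgroup hc E
  have h3 : p ∣ Nat.card (commutator E) := by
    have h4 : ((commutator E).map (r.comp E.subtype)) = L := by
      rw [commutator_def, Subgroup.map_commutator]
      have h5 : (⊤ : Subgroup E).map (r.comp E.subtype) = L := by
        rw [← Subgroup.map_map, ← MonoidHom.range_eq_map, Subgroup.range_subtype, hEL]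
      rw [h5, hLL]
    have h5 := Subgroup.card_map_dvd (commutator E) (r.comp E.subtype)
    rw [h4] at h5
    exact hpL.trans h5
  have h4 : orderOf (⟨x, hxE⟩ : E) = p := by rw [Subgroup.orderOf_mk, hx]
  have h5 : (⟨x, hxE⟩ : E) ∈ commutator E := CompBasic.mem_of_orderOf hcE hp hp2 inferInstance h3 h4
  refine RedSevenX.not_mem_commutator hcE hp hp2 ?_ h4 h5
  rw [mem_center_iff]
  intro g
  apply Subtype.ext
  have h6 : (g : K) ∈ centralizer (R : Set K) := g.2.1
  exact (mem_centralizer_iff.1 h6 x hxR).symm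

section

variable {G : Type u} [Group G] [Finite G] {F : Type} [Field F] [Fintype F] {V : Subgroup G} (M : NatMod F V)

/-- the elements inducing elements of `SL₂(F)` -/
def SLg : Subgroup G where
  carrier := {g | ∃ A, M.Ind g A}
  mul_mem' := by
    rintro a b ⟨s, hs⟩ ⟨t, ht⟩
    exact ⟨s * t, ind_mul M hs ht⟩
  one_mem' := ⟨1, ind_one M⟩
  inv_mem' := by
    rintro a ⟨s, hs⟩
    exact ⟨s⁻¹, ind_inv M hs⟩

theorem ind_inj {g : G} {A B : Matrix.SpecialLinearGroup (Fin 2) F} (hA : M.Ind g A) (hB : M.Ind g B) : A = B :=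
  ap_inj fun x => M.e_inj (by rw [← hA, ← hB])

/-- the matrix of an element of `SLg` -/
noncomputable def mat : SLg M →* Matrix.SpecialLinearGroup (Fin 2) F where
  toFun g := g.2.choose
  map_one' := ind_inj M (Exists.choose_spec (SLg M).one_mem) (ind_one M)
  map_mul' g k := ind_inj M (Exists.choose_spec (g * k).2)
    (ind_mul M (Exists.choose_spec g.2) (Exists.choose_spec k.2))

theorem mat_spec (g : SLg M) : M.Ind (g : G) (mat M g) := g.2.choose_spec

theorem mat_surjective : Function.Surjective (mat M) := fun A => by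
  obtain ⟨g, hg⟩ := M.lift A
  exact ⟨⟨g, A, hg⟩, ind_inj M (mat_spec M _) hg⟩

include M in
/-- an odd prime dividing `|SL₂(F)|` does not divide `|C_G(V)|` -/
theorem not_dvd_cent (hc : OddCyc G) (h4 : 4 ≤ Fintype.card F) {p : ℕ} (hp : p.Prime) (hp2 : p ≠ 2)
    (hpd : p ∣ Nat.card (Matrix.SpecialLinearGroup (Fin 2) F)) : ¬ p ∣ Nat.card (centralizer (V : Set G)) := by
  intro hk
  have h1 : commutator (Matrix.SpecialLinearGroup (Fin 2) F) = ⊤ :=
    Cfsg.Agent.TwoFusion.SLTwoFacts.commutator_eq_top (by omega)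
  refine not_dvd_ker (CompBasic.oddCyc_subgroup hc (SLg M)) (mat M) (L := ⊤) ?_ h1 hp hp2
    (by rwa [Subgroup.card_top]) ?_
  · rw [MonoidHom.range_eq_top.2 (mat_surjective M)]
  · refine hk.trans (Nat.card_congr ?_).dvd
    refine ⟨fun g => ⟨⟨g, 1, ind_of_cent M g.2⟩, ?_⟩, fun g => ⟨g.1, ?_⟩, fun g => rfl, fun g => rfl⟩
    · rw [MonoidHom.mem_ker]
      exact ind_inj M (mat_spec M _) (ind_of_cent M g.2)
    · have h2 := mat_spec M g.1
      rw [MonoidHom.mem_ker.1 g.2] at h2
      exact cent_of_ind M h2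

theorem ind_pow {g : G} {A : Matrix.SpecialLinearGroup (Fin 2) F} (hA : M.Ind g A) (n : ℕ) : M.Ind (g ^ n) (A ^ n) := by
  induction n with
  | zero => rw [pow_zero, pow_zero]; exact ind_one M
  | succ n ih => rw [pow_succ, pow_succ]; exact ind_mul M ih hA

theorem dg_pow {c : F} (hc : c ≠ 0) (n : ℕ) : dg c hc ^ n = dg (c ^ n) (pow_ne_zero n hc) := by
  induction n with
  | zero =>
    rw [pow_zero]
    refine ext_ent ?_ ?_ ?_ ?_ <;> simp
  | succ n ih =>
    rw [pow_succ, ih]
    refine ext_ent ?_ ?_ ?_ ?_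
    · rw [ent_mul]; simp [pow_succ]
    · rw [ent_mul]; simp
    · rw [ent_mul]; simp
    · rw [ent_mul]; simp [pow_succ, mul_comm]

theorem dg_one (h : (1 : F) ≠ 0) : dg 1 h = 1 := by
  refine ext_ent ?_ ?_ ?_ ?_ <;> simp

/-- torus elements of order dividing `q - 1` -/
theorem exists_tor (hc : OddCyc G) (h4 : 4 ≤ Fintype.card F) (hev : Even (Fintype.card F)) {l : F} (hl : l ≠ 0) :
    ∃ n : G, n ^ (Fintype.card F - 1) = 1 ∧ M.Ind n (dg l hl) := by
  obtain ⟨g, hg⟩ := M.lift (dg l hl)
  have hgI : M.Ind g (dg l hl) := hg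
  obtain ⟨e, he⟩ : ∃ e, e = Fintype.card F - 1 := ⟨_, rfl⟩
  have hle : dg l hl ^ e = 1 := by
    rw [dg_pow, ← dg_one one_ne_zero]
    congr 1
    rw [he]
    exact FiniteField.pow_card_sub_one_eq_one l hl
  have hge : g ^ e ∈ centralizer (V : Set G) := by
    have h1 := ind_pow M hgI e
    rw [hle] at h1
    exact cent_of_ind M h1
  have hcop : (orderOf (g ^ e)).Coprime e := by
    rw [Nat.coprime_iff_gcd_eq_one]
    by_contra h1
    obtain ⟨p, hp, hpd⟩ := Nat.exists_prime_and_dvd h1
    have hpf : Fact p.Prime := ⟨hp⟩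
    have hpe : p ∣ e := hpd.trans (Nat.gcd_dvd_right _ _)
    have hp2 : p ≠ 2 := by
      rintro rfl
      obtain ⟨m, hm⟩ := hev
      omega
    have hpV : p ∣ Nat.card (centralizer (V : Set G)) := by
      have h2 := orderOf_dvd_natCard (⟨g ^ e, hge⟩ : centralizer (V : Set G))
      rw [Subgroup.orderOf_mk] at h2
      exact (hpd.trans (Nat.gcd_dvd_left _ _)).trans h2
    refine not_dvd_cent M hc h4 hp hp2 ?_ hpV
    -- an element of order `p`
    have h3 : p ∣ Nat.card Fˣ := by
      rw [Nat.card_units, Nat.card_eq_fintype_card, ← he]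
      exact hpe
    obtain ⟨u, hu⟩ := exists_prime_orderOf_dvd_card' p h3
    have h5 : orderOf (dg (u : F) u.ne_zero) = p := by
      apply orderOf_eq_prime
      · rw [dg_pow, ← dg_one one_ne_zero]
        congr 1
        rw [← Units.val_pow_eq_pow_val, ← hu, pow_orderOf_eq_one, Units.val_one]
      · intro h6
        have h7 := congrArg (fun x => ent x 0 0) h6
        simp only [dg_00, ent_one_00] at h7
        have h8 : u = 1 := Units.ext h7
        rw [h8, orderOf_one] at hu
        exact hp.one_lt.ne hu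
    rw [← h5]
    exact orderOf_dvd_natCard _
  obtain ⟨a, ha0, ha1⟩ := Nat.chineseRemainder hcop 0 1
  refine ⟨g ^ a, ?_, ?_⟩
  · rw [← he, ← pow_mul, mul_comm, pow_mul]
    exact orderOf_dvd_iff_pow_eq_one.1 ((Nat.modEq_zero_iff_dvd).1 ha0)
  · have h1 := ind_pow M hgI a
    have h2 : dg l hl ^ a = dg l hl := by
      have h3 : dg l hl ^ a = dg l hl ^ 1 := by
        rw [pow_eq_pow_iff_modEq]
        exact ha1.of_dvd (orderOf_dvd_of_pow_eq_one hle)
      rw [h3, pow_one]
    rwa [h2] at h1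

end

end Cfsg.Agent.OddCyclic.EmpN
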