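import Cfsg.Agent.OddCyclic.EmpN.LnA
import Cfsg.Agent.OddCyclic.EmpN.Ker
import Cfsg.Agent.OddCyclic.NatNonab.Main

/-!
# (Empty)-III, section 7: (EV) for the line (α)

`NF.evA`: `V ^ g ≤ T`, `V ≤ T ^ g`, `[V, V ^ g] ≤ Y ∩ Y ^ g` give `[V, V ^ g] = 1`.
-/

set_option autoImplicit false
set_option linter.unusedSectionVars false
set_option maxHeartbeats 400000

namespace Cfsg.Agent.OddCyclic.EmpN

open Subgroup Cfsg Cfsg.Agent.ZN Cfsg.Agent.ZN.ChoiceBase Cfsg.Agent.ZN.ChoiceSit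
open Cfsg.Agent.MinSimple Cfsg.Agent.MinSimple.EmptyTI Cfsg.Agent.MinSimple.EmptySix
open Cfsg.Agent.MinSimple.EmptyE.Closed (LL CC cl mem_cl cl_eq cl_le vv_comm vv_sq vv_mul_self vv_inv
  isPGroup_vv vv_le_jj vv_le jj_le_centralizer_vv conj_mem_vv cj_vv)
open Cfsg.Agent.OddCyclic.EmpFrame
open Cfsg.Agent.OddCyclic.T1Defs (OddCyc)
open Cfsg.Agent.Omega.NatPair Cfsg.Agent.Lib.SL2Mat
open Cfsg.Agent.OddCyclic.NatNonab (NN Co)

universe u

section gen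

variable {G : Type u} [Group G]

/-- an element of odd order acting on `x` as `x ↦ r x`, `r² = 1`, acts trivially -/
theorem odd_comm {g x r : G} (hg : Odd (orderOf g)) (h1 : g * x * g⁻¹ = r * x) (h2 : g * r = r * g)
    (h3 : r * r = 1) : r = 1 := by
  have key : ∀ n : ℕ, g ^ n * x * (g ^ n)⁻¹ = r ^ n * x := by
    intro n
    induction n with
    | zero => simp
    | succ n ih =>
      have h4 : g * r ^ n = r ^ n * g := by
        have : Commute g (r ^ n) := (show Commute g r from h2).pow_right n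
        exact this.eq
      calc g ^ (n + 1) * x * (g ^ (n + 1))⁻¹ = g * (g ^ n * x * (g ^ n)⁻¹) * g⁻¹ := by
            rw [pow_succ']; group
        _ = g * (r ^ n * x) * g⁻¹ := by rw [ih]
        _ = (g * r ^ n) * x * g⁻¹ := by group
        _ = (r ^ n * g) * x * g⁻¹ := by rw [h4]
        _ = r ^ n * (g * x * g⁻¹) := by group
        _ = r ^ (n + 1) * x := by rw [h1, pow_succ]; group
  have h4 := key (orderOf g)
  rw [pow_orderOf_eq_one, one_mul, inv_one, mul_one] at h4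
  obtain ⟨k, hk⟩ := hg
  have h5 : r ^ orderOf g = 1 := mul_right_cancel (b := x) (by rw [one_mul]; exact h4.symm)
  rw [hk, pow_succ, pow_mul, pow_two, h3, one_pow, one_mul] at h5
  exact h5

/-- a group without nontrivial elements of odd order is a 2-group -/
theorem two_of_odd [Finite G] {K : Subgroup G} (h : ∀ x ∈ K, Odd (orderOf x) → x = 1) : IsPGroup 2 K := by
  rintro ⟨k, hk⟩
  obtain ⟨a, m, hm, ham⟩ := Nat.exists_eq_two_pow_mul_odd (orderOf_pos k).ne'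
  refine ⟨a, Subtype.ext ?_⟩
  have h1 : orderOf (k ^ 2 ^ a) = m := by
    rw [orderOf_pow_of_dvd (by positivity) (ham ▸ dvd_mul_right _ _), ham]
    exact Nat.mul_div_cancel_left _ (by positivity)
  exact h _ (K.pow_mem hk _) (h1 ▸ hm)

theorem one_of_two_odd {K : Subgroup G} (hK : IsPGroup 2 K) {x : G} (hx : x ∈ K) (ho : Odd (orderOf x)) :
    x = 1 := by
  obtain ⟨k, hk⟩ := hK ⟨x, hx⟩
  have hk' : x ^ 2 ^ k = 1 := congrArg Subtype.val hk
  have h1 := orderOf_dvd_of_pow_eq_one hk'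
  rw [← orderOf_eq_one_iff]
  exact Nat.eq_one_of_dvd_coprimes (Nat.Coprime.pow_right k (Nat.coprime_two_right.2 ho)) dvd_rfl h1

/-- the elements of `N(Y)` centralising `Q / Y` -/
def cmo (Q Y : Subgroup G) (hQ : Subgroup G) : Subgroup G where
  carrier := {x | x ∈ hQ ∧ x ∈ normalizer (Y : Set G) ∧ x ∈ normalizer (Q : Set G) ∧ ∀ q ∈ Q, x * q * x⁻¹ * q⁻¹ ∈ Y}
  mul_mem' := by
    rintro x y ⟨h0, hx, hx', h1⟩ ⟨h0', hy, hy', h2⟩
    refine ⟨mul_mem h0 h0', mul_mem hx hy, mul_mem hx' hy', fun q hq => ?_⟩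
    have e : x * y * q * (x * y)⁻¹ * q⁻¹ = x * (y * q * y⁻¹ * q⁻¹) * x⁻¹ * (x * q * x⁻¹ * q⁻¹) := by group
    rw [e]
    exact mul_mem ((mem_normalizer_iff.1 hx _).1 (h2 q hq)) (h1 q hq)
  one_mem' := ⟨one_mem _, one_mem _, one_mem _, fun q _ => by simp [one_mem]⟩
  inv_mem' := by
    rintro x ⟨h0, hx, hx', h1⟩
    refine ⟨inv_mem h0, inv_mem hx, inv_mem hx', fun q hq => ?_⟩
    have e : x⁻¹ * q * x⁻¹⁻¹ * q⁻¹ = x⁻¹ * (x * q * x⁻¹ * q⁻¹)⁻¹ * x⁻¹⁻¹ := by group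
    rw [e]
    exact (mem_normalizer_iff.1 (inv_mem hx) _).1 (inv_mem (h1 q hq))

theorem mem_cmo {Q Y K : Subgroup G} {x : G} : x ∈ cmo Q Y K ↔
    x ∈ K ∧ x ∈ normalizer (Y : Set G) ∧ x ∈ normalizer (Q : Set G) ∧ ∀ q ∈ Q, x * q * x⁻¹ * q⁻¹ ∈ Y := Iff.rfl

end gen

variable {G : Type u} [Group G] [Finite G] {S : Sylow 2 G} {I N : Subgroup G}
  {F : Type} [Field F] [Fintype F] [CharP F 2] {M : NatMod F (vv (S : Subgroup G))}

namespace NF

variable (h : NF S I N M)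

include h

/-- `N_G(Y) ≤ M` -/
theorem norm_yy_le : normalizer (yy N (vv (S : Subgroup G)) : Set G) ≤ normalizer (I : Set G) := by
  intro g hg
  exact h.lnA_base.mem_M_of h.lnA_base.z_yy h.lnA_base.z_ne ((mem_normalizer_iff.1 hg _).1 h.lnA_base.z_yy)

theorem isTwoLocal_yy : IsTwoLocal (normalizer (yy N (vv (S : Subgroup G)) : Set G)) := by
  refine ⟨_, isPGroup_vv.to_le (yy_le _ _), fun h0 => ?_, rfl⟩
  have h1 := h.lnA_base.z_yy
  rw [h0, mem_bot] at h1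
  exact h.lnA_base.z_ne h1

theorem S_le_yy : (S : Subgroup G) ≤ normalizer (yy N (vv (S : Subgroup G)) : Set G) :=
  h.lnA_base.S_le_bb.trans h.lnA_base.bb_norm_yy

/-- `O₂(N_G(Y)) ≤ T` -/
theorem o2_yy_le : o2 (normalizer (yy N (vv (S : Subgroup G)) : Set G)) ≤
    tt (S : Subgroup G) I (vv (S : Subgroup G)) := by
  have h1 : o2 (normalizer (yy N (vv (S : Subgroup G)) : Set G)) ≤ (S : Subgroup G) :=
    o2_le_syl (syl_of_le h.S_le_yy)
  exact ChoiceSit.le_o2 (S.isPGroup'.to_le h1) (h1.trans h.lnA_base.S_le_bb)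
    (h.lnA_base.bb_norm_yy.trans (Block.le_normalizer_o2 _))

/-- `⟨V ^ N(Y)⟩ ≤ O₂(N(Y))` -/
theorem conj_mem_o2 (hK : h.KK = ⊤) {g w : G} (hg : g ∈ normalizer (yy N (vv (S : Subgroup G)) : Set G))
    (hw : w ∈ vv (S : Subgroup G)) : g * w * g⁻¹ ∈ o2 (normalizer (yy N (vv (S : Subgroup G)) : Set G)) := by
  obtain ⟨f, hf, hf2⟩ := h.card_F_pow
  have hA := h.lnA hK hf hf2
  set V := vv (S : Subgroup G) with hV
  set Y := yy N V with hY
  set N₁ := normalizer (Y : Set G) with hN₁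
  set X := NatNonab.wp V Y with hX
  have hQn := Block.le_normalizer_o2 N₁
  have hVN : V ≤ N₁ := fun v hv => h.S_le_yy (vv_le hv)
  have hVX : X ≤ cmo (o2 N₁) Y (centralizer (Y : Set G)) := by
    refine NatNonab.wp_le fun n hn => ?_
    rintro _ ⟨v, hv, rfl⟩
    have hnv : n * v * n⁻¹ ∈ N₁ := mul_mem (mul_mem hn (hVN hv)) (inv_mem hn)
    refine mem_cmo.2 ⟨?_, hnv, hQn hnv, fun q hq => ?_⟩
    · rw [mem_centralizer_iff]
      intro y hy
      have h1 := (mem_normalizer_iff.1 (inv_mem hn) y).1 hy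
      rw [inv_inv] at h1
      have h2 : n⁻¹ * y * n * v = v * (n⁻¹ * y * n) := vv_comm (yy_le _ _ h1) hv
      calc y * (n * v * n⁻¹) = n * (n⁻¹ * y * n * v) * n⁻¹ := by group
        _ = n * (v * (n⁻¹ * y * n)) * n⁻¹ := by rw [h2]
        _ = n * v * n⁻¹ * y := by group
    · have h1 : n⁻¹ * q * n ∈ o2 N₁ := by
        have := (mem_normalizer_iff.1 (inv_mem (hQn hn)) q).1 hq
        rwa [inv_inv] at this
      have h2 := hA.lp3 _ (h.o2_yy_le h1) v hv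
      have e : n * v * n⁻¹ * q * (n * v * n⁻¹)⁻¹ * q⁻¹ =
          n * ((n⁻¹ * q * n) * v * (n⁻¹ * q * n)⁻¹ * v⁻¹)⁻¹ * n⁻¹ := by group
      change n * v * n⁻¹ * q * (n * v * n⁻¹)⁻¹ * q⁻¹ ∈ Y
      rw [e]
      exact (mem_normalizer_iff.1 hn _).1 (inv_mem h2)
  have hXN : X ≤ N₁ := fun x hx => (mem_cmo.1 (hVX hx)).2.1
  have hXn : N₁ ≤ normalizer (X : Set G) := NatNonab.normalizer_le_normalizer_wp V Y
  have hc2 := char2_of_isTwoLocal h.ens.hyp.char2 h.isTwoLocal_yy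
  have hYQ : Y ≤ o2 N₁ := ChoiceSit.le_o2 (isPGroup_vv.to_le (yy_le _ _)) (by rw [hN₁]; exact le_normalizer) le_rfl
  have hX2 : IsPGroup 2 X := by
    refine two_of_odd fun x hx ho => ?_
    obtain ⟨h0, h1, h2, h3⟩ := mem_cmo.1 (hVX hx)
    have h4 : x ∈ o2 N₁ := by
      refine hc2 (mem_inf.2 ⟨hXN hx, mem_centralizer_iff.2 fun q hq => ?_⟩)
      have h5 := h3 q hq
      have h6 : x * q * x⁻¹ * q⁻¹ = 1 := by
        refine odd_comm ho (x := q) (by group) ?_ (vv_mul_self (yy_le _ _ h5))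
        exact (mem_centralizer_iff.1 h0 _ h5).symm
      have h7 := mul_inv_eq_one.1 h6
      exact (mul_inv_eq_iff_eq_mul.1 h7).symm
    exact one_of_two_odd (ZN.ChoiceSit.isPGroup_o2 _) h4 ho
  have hXo : X ≤ o2 N₁ := ChoiceSit.le_o2 hX2 hXN hXn
  exact hXo (NatNonab.cj_le_wp hg ⟨w, hw, rfl⟩)

/-- coordinates -/
theorem coA (hK : h.KK = ⊤) : Co (vv (S : Subgroup G)) (yy N (vv (S : Subgroup G))) (M.line (e₂ F))
    (fun x : F => M.e (x • e₁ F)) (fun y : F => M.e (y • e₂ F)) where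
  a_add x y := by rw [add_smul, M.e_add]
  b_add x y := by rw [add_smul, M.e_add]
  comm x y := M.comm (M.e_mem _) (M.e_mem _)
  mem₁ g := by
    constructor
    · intro hg
      obtain ⟨x, rfl⟩ := (M.mem_iff g).1 (yy_le _ _ hg)
      refine ⟨x 0, ?_⟩
      have h1 := (h.yyA hK).1 hg
      conv_lhs => rw [vec_eq x, h1, zero_smul, add_zero]
    · rintro ⟨x, rfl⟩
      exact (h.yyA hK).2 (by simp)
  mem₂ g := by
    rw [M.mem_line]
    exact ⟨fun ⟨c, hc⟩ => ⟨c, hc.symm⟩, fun ⟨c, hc⟩ => ⟨c, hc.symm⟩⟩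
  mem g := by
    constructor
    · intro hg
      obtain ⟨x, rfl⟩ := (M.mem_iff g).1 hg
      refine ⟨x 0, x 1, ?_⟩
      rw [← M.e_add, ← vec_eq x]
    · rintro ⟨x, y, rfl⟩
      exact mul_mem (M.e_mem _) (M.e_mem _)
  inj x y hxy := by
    rw [← M.e_add, M.e_eq_one] at hxy
    have h1 := congrFun hxy 0
    have h2 := congrFun hxy 1
    simp only [Pi.add_apply, Pi.smul_apply, Matrix.cons_val_zero, Matrix.cons_val_one, smul_eq_mul, mul_one, mul_zero,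
      add_zero, zero_add, Pi.zero_apply] at h1 h2
    exact ⟨h1, h2⟩

/-- elements of `S` act on `V` as semilinear triangular maps -/
theorem act_S_e2 {s : G} (hs : s ∈ (S : Subgroup G)) (y : F) :
    s * M.e (y • e₂ F) * s⁻¹ = M.e ((sig M s y * (M.act s (e₂ F)) 0) • e₁ F) *
      M.e ((sig M s y * (M.act s (e₂ F)) 1) • e₂ F) := by
  have hsL := h.S_le_LL hs
  rw [← M.e_act hsL, sig_spec hsL, ← M.e_add]
  congr 1
  conv_lhs => rw [vec_eq (M.act s (e₂ F)), smul_add, smul_smul, smul_smul]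

theorem act_S_ne {s : G} (hs : s ∈ (S : Subgroup G)) : (M.act s (e₂ F)) 1 ≠ 0 := by
  intro h0
  have hsL := h.S_le_LL hs
  have h1 : M.act s (e₂ F) = (M.act s (e₂ F)) 0 • e₁ F := by
    conv_lhs => rw [vec_eq (M.act s (e₂ F)), h0, zero_smul, add_zero]
  have h2 := M.act_inv_act hsL (e₂ F)
  rw [h1, h.act_S (inv_mem hs)] at h2
  have h3 := congrFun h2 1
  simp at h3

/-- elements of `S ∩ C(Y)` are root elements -/
theorem rootA (hK : h.KK = ⊤) {s : G} (hs : s ∈ (S : Subgroup G))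
    (hc : s ∈ centralizer (yy N (vv (S : Subgroup G)) : Set G)) : ∃ t : F, ∀ y : F,
      s * M.e (y • e₂ F) * s⁻¹ = M.e ((t * y) • e₁ F) * M.e (y • e₂ F) := by
  have hsL := h.S_le_LL hs
  have hfix : ∀ c : F, M.act s (c • e₁ F) = c • e₁ F := fun c =>
    (fix_iff M hsL _).1 (mem_centralizer_iff.1 hc _ ((h.yyA hK).2 (by simp))).symm
  have hσ : sig M s = 1 := sig_eq_one hsL e₁_ne fun c => by rw [hfix, h.act_e1 hs]
  obtain ⟨μ, hμ⟩ : ∃ μ, μ = (M.act s (e₂ F)) 1 := ⟨_, rfl⟩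
  have h2nd : ∀ y : Fin 2 → F, (M.act s y) 1 = μ * y 1 := by
    intro y
    conv_lhs => rw [vec_eq y]
    rw [M.act_add hsL, sig_spec hsL, sig_spec hsL, hσ, h.act_e1 hs]
    simp [hμ, mul_comm]
  have hpow : ∀ n : ℕ, ∀ y : Fin 2 → F, (M.act (s ^ n) y) 1 = μ ^ n * y 1 := by
    intro n
    induction n with
    | zero => intro y; rw [pow_zero, pow_zero, M.act_one, one_mul]
    | succ n ih =>
      intro y
      rw [pow_succ, M.act_mul (pow_mem hsL n) hsL, ih, h2nd, pow_succ]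
      ring
  obtain ⟨k, hk⟩ := S.isPGroup' ⟨s, hs⟩
  have hk' : s ^ 2 ^ k = 1 := congrArg Subtype.val hk
  have h1 := hpow (2 ^ k) (e₂ F)
  rw [hk', M.act_one] at h1
  have h3 : μ ^ 2 ^ k = 1 := by simpa using h1.symm
  have h4 : μ = 1 := by
    have h5 : (μ - 1) ^ 2 ^ k = 0 := by rw [CharTwo.sub_eq_add, add_pow_q, h3, one_pow, CharTwo.add_self_eq_zero]
    exact sub_eq_zero.1 (pow_eq_zero_iff (by positivity) |>.1 h5)
  refine ⟨(M.act s (e₂ F)) 0, fun y => ?_⟩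
  rw [h.act_S_e2 hs, ← hμ, h4, hσ, mul_one, mul_comm]
  rfl

/-- the situation of `NatNonab` -/
theorem nnA (hK : h.KK = ⊤) {g : G} (hg : g ∈ normalizer (yy N (vv (S : Subgroup G)) : Set G))
    (hn : ∃ v ∈ vv (S : Subgroup G), ∃ w ∈ vv (S : Subgroup G), v * (g * w * g⁻¹) ≠ (g * w * g⁻¹) * v) :
    NN (S : Subgroup G) (vv (S : Subgroup G)) (yy N (vv (S : Subgroup G))) (M.line (e₂ F))
      (fun x : F => M.e (x • e₁ F)) (fun y : F => M.e (y • e₂ F)) where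
  cyc := h.ens.hyp.cyc
  four := h.four
  co := h.coA hK
  swap := by
    have h2 : (2 : F) = 0 := CharTwo.two_eq_zero
    obtain ⟨n, hn⟩ := M.lift (Cfsg.Agent.Lib.SL2Mat.mk 0 1 1 0 (by linear_combination -h2))
    have hnI : M.Ind n (Cfsg.Agent.Lib.SL2Mat.mk 0 1 1 0 (by linear_combination -h2)) := hn
    refine ⟨n, M.mem_normalizer hnI, fun x y => ?_⟩
    rw [← M.e_add, hnI, ← M.e_add]
    congr 1
    apply ext2
    · rw [ap_zero']; simp
    · rw [ap_one']; simp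
  tor l hl := by
    have hev : Even (Fintype.card F) := by
      obtain ⟨f, hf, hf2⟩ := h.card_F_pow
      rw [hf]
      exact (Nat.even_pow' (by omega)).2 even_two
    obtain ⟨n, hn1, hnI⟩ := exists_tor M h.ens.hyp.cyc h.four hev hl
    refine ⟨n, M.mem_normalizer hnI, hn1, fun x y => ?_⟩
    rw [← M.e_add, hnI, ap_dg, ← M.e_add]
    congr 1
    apply ext2
    · simp
    · simp
  two := S.isPGroup'
  le := h.S_le_yy
  syl := Basic.not_dvd_relIndex S h.S_le_yy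
  le' := h.S_le_LL
  root s hs hc := h.rootA hK hs hc
  pts s hs := by
    refine ⟨(M.act s (e₂ F)) 0 * ((M.act s (e₂ F)) 1)⁻¹, fun y => ⟨sig M s y * (M.act s (e₂ F)) 1, ?_⟩⟩
    rw [h.act_S_e2 hs]
    have h1 := h.act_S_ne hs
    have e : (M.act s (e₂ F)) 0 * ((M.act s (e₂ F)) 1)⁻¹ * (sig M s y * (M.act s (e₂ F)) 1) =
        sig M s y * (M.act s (e₂ F)) 0 := by
      field_simp
    rw [e]
  soc s hs h2 hc := h.zc_le_yv (ChoiceBase.mem_zc.2 ⟨hs, by rw [pow_two]; exact h2, hc⟩)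
  cmm n hn v hv w hw := by
    obtain ⟨f, hf, hf2⟩ := h.card_F_pow
    have h1 := (h.lnA hK hf hf2).lp3 _ (h.o2_yy_le (h.conj_mem_o2 hK hn hw)) v hv
    have e : v * (n * w * n⁻¹) * v⁻¹ * (n * w * n⁻¹)⁻¹ = (n * w * n⁻¹ * v * (n * w * n⁻¹)⁻¹ * v⁻¹)⁻¹ := by group
    rw [e]
    exact inv_mem h1
  nonab := ⟨g, hg, hn⟩

theorem norm_yy_ne : normalizer (yy N (vv (S : Subgroup G)) : Set G) ≠ ⊤ := by
  intro h0
  apply h.ens.not_LL_le h.ti
  refine le_trans le_top ?_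
  rw [← h0]
  exact h.norm_yy_le

/-- **(EV)** for the line (α) -/
theorem evA (hK : h.KK = ⊤) (hKS : KZeroCongr.KS G) {g : G}
    (h1 : cj g (vv (S : Subgroup G)) ≤ tt (S : Subgroup G) I (vv (S : Subgroup G)))
    (h2 : vv (S : Subgroup G) ≤ cj g (tt (S : Subgroup G) I (vv (S : Subgroup G))))
    (h3 : ∀ x ∈ vv (S : Subgroup G), ∀ w ∈ cj g (vv (S : Subgroup G)),
      x * w * x⁻¹ * w⁻¹ ∈ yy N (vv (S : Subgroup G)) ∧ x * w * x⁻¹ * w⁻¹ ∈ cj g (yy N (vv (S : Subgroup G)))) :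
    ∀ x ∈ vv (S : Subgroup G), ∀ w ∈ cj g (vv (S : Subgroup G)), x * w = w * x := by
  intro x hx w hw
  by_contra hne
  obtain ⟨f, hf, hf2⟩ := h.card_F_pow
  have hA := h.lnA hK hf hf2
  have hwT := h1 hw
  have hwL := h.S_le_LL (h.lnA_base.tt_le_S hwT)
  obtain ⟨a, ha⟩ := h.up_of hwL hK (fun v hv => h.lnA_base.tt_cent hwT hv) (hA.lp3 w hwT _ (M.e_mem _))
  have ha0 : a ≠ 0 := by
    rintro rfl
    rw [up_zero] at ha
    exact hne (mem_centralizer_iff.1 (cent_of_ind M ha) x hx)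
  have hle : yy N (vv (S : Subgroup G)) ≤ cj g (yy N (vv (S : Subgroup G))) := by
    intro y hy
    obtain ⟨c, rfl⟩ := ((h.coA hK).mem₁ y).1 hy
    have h4 := (h3 (M.e ((c * a⁻¹) • e₂ F)) (M.e_mem _) w hw).2
    have e : M.e (c • e₁ F) =
        (M.e ((c * a⁻¹) • e₂ F) * w * (M.e ((c * a⁻¹) • e₂ F))⁻¹ * w⁻¹)⁻¹ := by
      have e1 : (M.e ((c * a⁻¹) • e₂ F) * w * (M.e ((c * a⁻¹) • e₂ F))⁻¹ * w⁻¹)⁻¹ =
          w * M.e ((c * a⁻¹) • e₂ F) * w⁻¹ * (M.e ((c * a⁻¹) • e₂ F))⁻¹ := by group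
      rw [e1, ha, ← M.e_sub, ap_up]
      congr 1
      apply ext2
      · simp only [Pi.smul_apply, Matrix.cons_val_zero, Matrix.cons_val_one, smul_eq_mul, mul_one, mul_zero,
          zero_add, Pi.sub_apply, sub_zero]
        rw [mul_comm c, mul_inv_cancel_left₀ ha0]
      · simp
    change M.e (c • e₁ F) ∈ _
    rw [e]
    exact inv_mem h4
  have hcard : Nat.card (cj g (yy N (vv (S : Subgroup G)))) = Nat.card (yy N (vv (S : Subgroup G))) :=
    Subgroup.card_map_of_injective (MulAut.conj g).injective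
  have heq : yy N (vv (S : Subgroup G)) = cj g (yy N (vv (S : Subgroup G))) :=
    Subgroup.eq_of_le_of_card_ge hle hcard.le
  have hg : g ∈ normalizer (yy N (vv (S : Subgroup G)) : Set G) := mem_normalizer_iff_cj.2 heq.symm
  obtain ⟨w₀, hw₀, rfl⟩ := hw
  exact (h.nnA hK hg ⟨x, hx, w₀, hw₀, hne⟩).false hKS h.norm_yy_ne

end NF

end Cfsg.Agent.OddCyclic.EmpN
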