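import Mathlib
import Cfsg.Agent.OddCyclic.T1Structure
import Cfsg.Agent.OddCyclic.CompBasic
import Cfsg.Agent.OddCyclic.COneOdd

/-!
# (Empty)-III, section 6: field automorphisms; commuting elements of prime order
-/

set_option autoImplicit false
set_option linter.unusedSectionVars false

namespace Cfsg.Agent.OddCyclic.EmpN

open Subgroup
open Cfsg.Agent.OddCyclic.T1Defs (OddCyc)

/-- Artin: a field automorphism fixing the fixed points of a group `Σ` of automorphisms lies in `Σ` -/
theorem mem_of_fix {F : Type*} [Field F] [Finite F] (T : Subgroup (RingAut F)) (σ : RingAut F)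
    (h : ∀ c : F, (∀ τ ∈ T, τ c = c) → σ c = c) : σ ∈ T := by
  have : Finite (RingAut F) := Finite.of_injective (fun τ : RingAut F => (τ : F → F)) DFunLike.coe_injective
  have hfin : Finite T := inferInstance
  let _ : MulSemiringAction T F := inferInstance
  have hfix : ∀ c : F, c ∈ FixedPoints.subfield T F → σ c = c := by
    intro c hc
    apply h
    intro τ hτ
    exact hc ⟨τ, hτ⟩
  let φ : F →ₐ[FixedPoints.subfield T F] F :=
    { (σ : F →+* F) with
      commutes' := fun c => hfix c c.2 }
  obtain ⟨τ, hτ⟩ := (FixedPoints.toAlgHom_bijective T F).2 φ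
  have h1 : (τ : RingAut F) = σ := by
    ext c
    have := DFunLike.congr_fun hτ c
    exact this
  rw [← h1]
  exact τ.2

/-- commuting elements of the same odd prime order generate the same subgroup -/
theorem mem_zpowers_of_commute {X : Type*} [Group X] [Finite X] (hc : OddCyc X) {s : ℕ} (hs : s.Prime) (hs2 : s ≠ 2)
    {a b : X} (hab : a * b = b * a) (ha : a ^ s = 1) (ha1 : a ≠ 1) (hb : b ^ s = 1) (hb1 : b ≠ 1) :
    b ∈ zpowers a := by
  have hsf : Fact s.Prime := ⟨hs⟩
  have hoa : orderOf a = s := orderOf_eq_prime ha ha1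
  have hob : orderOf b = s := orderOf_eq_prime hb hb1
  have h1 : IsPGroup s (zpowers a) := IsPGroup.of_card (n := 1) (by rw [Nat.card_zpowers, hoa, pow_one])
  have h2 : IsPGroup s (zpowers b) := IsPGroup.of_card (n := 1) (by rw [Nat.card_zpowers, hob, pow_one])
  have h3 : zpowers b ≤ normalizer (zpowers a : Set X) := by
    rw [zpowers_le]
    refine centralizer_le_normalizer _ ?_
    rw [mem_centralizer_iff]
    rintro _ ⟨k, rfl⟩
    exact (show Commute a b from hab).zpow_left k
  have h4 : IsPGroup s (zpowers b ⊔ zpowers a : Subgroup X) := h2.to_sup_of_normal_right' h1 h3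
  have h5 := CompBasic.isCyclic_of_isPGroup hc hs hs2 h4
  have h6 := COneOdd.zpowers_eq_of_orderOf h5 (mem_sup_right (mem_zpowers a) : a ∈ zpowers b ⊔ zpowers a)
    (mem_sup_left (mem_zpowers b)) (by rw [hoa, hob])
  rw [h6]
  exact mem_zpowers b

end Cfsg.Agent.OddCyclic.EmpN
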