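import Cfsg.Agent.OddCyclic.EmpPiece
import Cfsg.Agent.OddCyclic.EmpN.Fld
import Cfsg.Agent.Omega.NatPair.Mod
import Cfsg.Agent.OddCyclic.COneLinB

/-!
# (Empty)-III, (6.0): coordinates of the natural module `V = vv S`

`NF S I N M`: `V = vv S` is a natural `SL₂(F)`-module (`M : NatMod F V`), `|F| ≥ 4`, `e (1, 0) ∈ Z`.

* `exists_ind`: elements of `N_G(J)` induce all of `SL₂(F)`;
* `exists_up`: elements of `S` induce all upper unitriangular matrices;
* `zc_line`: `Z ≤ F e₁`;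
* `t_one` (T1): an element of odd order of `L` centralising `Z` centralises `V`.
-/

set_option autoImplicit false
set_option linter.unusedSectionVars false

namespace Cfsg.Agent.OddCyclic.EmpN

open Subgroup Cfsg Cfsg.Agent.ZN Cfsg.Agent.ZN.ChoiceBase Cfsg.Agent.ZN.ChoiceSit
open Cfsg.Agent.MinSimple Cfsg.Agent.MinSimple.EmptyTI Cfsg.Agent.MinSimple.EmptySix
open Cfsg.Agent.MinSimple.EmptyE.Closed (LL CC cl mem_cl cl_eq cl_le vv_comm vv_sq vv_mul_self vv_inv
  isPGroup_vv vv_le_jj vv_le jj_le_centralizer_vv conj_mem_vv cj_vv)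
open Cfsg.Agent.OddCyclic.EmpFrame
open Cfsg.Agent.OddCyclic.T1Defs (OddCyc)
open Cfsg.Agent.Omega.NatPair Cfsg.Agent.Lib.SL2Mat

universe u

variable {G : Type u} [Group G]

section ind

variable {F : Type} [Field F] {V : Subgroup G} (M : NatMod F V)

theorem ind_mul {g h : G} {A B : Matrix.SpecialLinearGroup (Fin 2) F} (hA : M.Ind g A) (hB : M.Ind h B) :
    M.Ind (g * h) (A * B) := fun x => by
  rw [ap_mul, ← hA, ← hB]; group

theorem ind_one : M.Ind 1 1 := fun x => by rw [ap_one]; group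

theorem ind_inv {g : G} {A : Matrix.SpecialLinearGroup (Fin 2) F} (hA : M.Ind g A) : M.Ind g⁻¹ A⁻¹ := fun x => by
  have h1 := hA (ap A⁻¹ x)
  rw [ap_ap_inv] at h1
  rw [← h1]; group

theorem ind_of_cent {g : G} (hg : g ∈ centralizer (V : Set G)) : M.Ind g 1 := fun x => by
  rw [ap_one, ← mem_centralizer_iff.1 hg _ (M.e_mem x), mul_inv_cancel_right]

theorem cent_of_ind {g : G} (hg : M.Ind g 1) : g ∈ centralizer (V : Set G) := by
  rw [mem_centralizer_iff]
  intro v hv
  obtain ⟨x, rfl⟩ := (M.mem_iff v).1 hv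
  have := hg x
  rw [ap_one, mul_inv_eq_iff_eq_mul] at this
  exact this.symm

theorem cent_of_act {g : G} (hg : g ∈ normalizer (V : Set G)) (h : ∀ x, M.act g x = x) :
    g ∈ centralizer (V : Set G) := cent_of_ind M (M.ind_of_act hg fun x => by rw [h, ap_one])

theorem act_of_cent {g : G} (hg : g ∈ centralizer (V : Set G)) (x : Fin 2 → F) : M.act g x = x := by
  rw [M.act_of_ind (ind_of_cent M hg), ap_one]

theorem fix_iff {g : G} (hg : g ∈ normalizer (V : Set G)) (x : Fin 2 → F) : g * M.e x = M.e x * g ↔ M.act g x = x :=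
  M.commute_e hg

end ind

variable [Finite G] {S : Sylow 2 G} {I N : Subgroup G} {F : Type} [Field F] [Fintype F] [CharP F 2]

/-- (ii): `V = vv S` is a natural module -/
structure NF (S : Sylow 2 G) (I N : Subgroup G) (M : NatMod F (vv (S : Subgroup G))) : Prop where
  ens : ENS S
  ti : TIData (S : Subgroup G) I
  jp : JP (S : Subgroup G) I N
  four : 4 ≤ Fintype.card F
  e1 : M.e ![1, 0] ∈ zc (S : Subgroup G)

/-- the first and the second basis vector -/
abbrev e₁ (F : Type) [Field F] : Fin 2 → F := ![1, 0]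
abbrev e₂ (F : Type) [Field F] : Fin 2 → F := ![0, 1]

theorem e₁_ne : e₁ F ≠ 0 := by
  intro h
  have := congrFun h 0
  simp at this

theorem vec_eq (x : Fin 2 → F) : x = x 0 • e₁ F + x 1 • e₂ F := by
  apply ext2 <;> simp

theorem smul_e₁_inj {c d : F} (h : c • e₁ F = d • e₁ F) : c = d := smul_left_injective F e₁_ne h

theorem ap_up (t : F) (x : Fin 2 → F) : ap (up t) x = ![x 0 + t * x 1, x 1] := by
  apply ext2
  · rw [ap_zero']; simp
  · rw [ap_one']; simp

theorem ap_dg {c : F} (hc : c ≠ 0) (x : Fin 2 → F) : ap (dg c hc) x = ![c * x 0, c⁻¹ * x 1] := by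
  apply ext2
  · rw [ap_zero']; simp
  · rw [ap_one']; simp

namespace NF

variable {M : NatMod F (vv (S : Subgroup G))} (h : NF S I N M)

include h

theorem S_le_LL : (S : Subgroup G) ≤ normalizer (vv (S : Subgroup G) : Set G) := h.ens.le_LL

theorem nj_le : normalizer (jj (S : Subgroup G) : Set G) ≤ normalizer (vv (S : Subgroup G) : Set G) :=
  h.ens.normalizer_le_LL

/-- `L = N_G(J) C_G(V)` -/
theorem LL_le : normalizer (vv (S : Subgroup G) : Set G) ≤
    normalizer (jj (S : Subgroup G) : Set G) ⊔ centralizer (vv (S : Subgroup G) : Set G) := by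
  have h1 := Basic.frattini_jj (X := normalizer (vv (S : Subgroup G) : Set G))
    (L := centralizer (vv (S : Subgroup G) : Set G)) (S := (S : Subgroup G)) h.S_le_LL S.isPGroup'
    (Basic.not_dvd_relIndex S h.S_le_LL) (DBlkReduce.nc _) jj_le_centralizer_vv
  exact h1.trans (sup_le le_sup_right (inf_le_right.trans le_sup_left))

/-- `N_G(J)` induces `SL₂(F)` -/
theorem exists_ind (A : Matrix.SpecialLinearGroup (Fin 2) F) :
    ∃ n ∈ normalizer (jj (S : Subgroup G) : Set G), M.Ind n A := by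
  obtain ⟨g, hg⟩ := M.lift A
  have h1 := M.mem_normalizer (h := g) hg
  obtain ⟨n, hn, c, hc, rfl⟩ := COneLinB.exists_mul_of_mem_sup (h.nj_le.trans (DBlkReduce.nc _)) (h.LL_le h1)
  refine ⟨n, hn, ?_⟩
  have h2 := ind_mul M (A := A) (B := 1) (h := c⁻¹) hg (ind_of_cent M (inv_mem hc))
  rwa [mul_inv_cancel_right, mul_one] at h2

theorem act_e1 {s : G} (hs : s ∈ (S : Subgroup G)) : M.act s (e₁ F) = e₁ F :=
  (fix_iff M (h.S_le_LL hs) _).1 ((ChoiceBase.mem_zc.1 h.e1).2.2 s hs)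

omit h in
/-- an element of `SL₂(F)` fixing `e₁` is upper unitriangular -/
theorem eq_up {A : Matrix.SpecialLinearGroup (Fin 2) F} (hA : ap A (e₁ F) = e₁ F) : ∃ t, A = up t := by
  have e1 := congrFun hA 0
  have e2 := congrFun hA 1
  rw [ap_zero'] at e1
  rw [ap_one'] at e2
  simp only [Matrix.cons_val_zero, Matrix.cons_val_one, mul_one, mul_zero, add_zero] at e1 e2
  have e3 := det_eq A
  refine ⟨ent A 0 1, ext_ent ?_ ?_ ?_ ?_⟩
  · rw [up_00, e1]
  · rw [up_01]
  · rw [up_10, e2]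
  · rw [up_11]
    rw [e1, e2, mul_zero, sub_zero, one_mul] at e3
    exact e3

omit h in
variable (M) in
/-- the elements acting as upper unitriangular matrices -/
def UU : Subgroup G where
  carrier := {g | ∃ t, M.Ind g (up t)}
  mul_mem' := by
    rintro a b ⟨s, hs⟩ ⟨t, ht⟩
    exact ⟨s + t, by rw [← up_mul]; exact ind_mul M hs ht⟩
  one_mem' := ⟨0, by rw [up_zero]; exact ind_one M⟩
  inv_mem' := by
    rintro a ⟨s, hs⟩
    exact ⟨-s, by rw [← up_inv]; exact ind_inv M hs⟩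

omit h in
theorem mem_UU {g : G} : g ∈ UU M ↔ ∃ t, M.Ind g (up t) := Iff.rfl

omit h in
theorem cent_le_UU : centralizer (vv (S : Subgroup G) : Set G) ≤ UU M := fun g hg =>
  ⟨0, by rw [up_zero]; exact ind_of_cent M hg⟩

omit h in
theorem UU_le : UU M ≤ normalizer (vv (S : Subgroup G) : Set G) := fun _ ⟨_, ht⟩ => M.mem_normalizer ht

omit h in
theorem UU_sq {g : G} (hg : g ∈ UU M) : g * g ∈ centralizer (vv (S : Subgroup G) : Set G) := by
  obtain ⟨t, ht⟩ := hg
  have h1 := ind_mul M ht ht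
  rw [up_mul, CharTwo.add_self_eq_zero, up_zero] at h1
  exact cent_of_ind M h1

theorem S_norm_UU : (S : Subgroup G) ≤ normalizer (UU M : Set G) := by
  rw [le_normalizer_iff]
  intro s hs g hg
  have hgV := UU_le hg
  have hsV := h.S_le_LL hs
  obtain ⟨t, ht⟩ := hg
  obtain ⟨B, hB⟩ := M.norm s hsV g (up t) ht
  have h1 : M.Ind (s * g * s⁻¹) B := hB
  have h2 : ap B (e₁ F) = e₁ F := by
    rw [← M.act_of_ind h1, M.act_mul (mul_mem hsV hgV) (inv_mem hsV), h.act_e1 (inv_mem hs),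
      M.act_mul hsV hgV, M.act_of_ind ht, ap_up_e, h.act_e1 hs]
  obtain ⟨b, rfl⟩ := eq_up h2
  exact ⟨b, h1⟩

omit h in
/-- `U = K (S ∩ U)` if `U / K` is a 2-group and `S` a Sylow 2-subgroup normalising `U` -/
theorem le_sup_inf {U K : Subgroup G} (hS : (S : Subgroup G) ≤ normalizer (U : Set G)) (hKU : K ≤ U)
    (hUK : U ≤ normalizer (K : Set G)) (h2 : ∀ g ∈ U, ∃ n : ℕ, g ^ 2 ^ n ∈ K) :
    U ≤ ((S : Subgroup G) ⊓ U) ⊔ K := by
  have h2p : Fact (Nat.Prime 2) := ⟨Nat.prime_two⟩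
  have hle : ((S : Subgroup G) ⊓ U) ⊔ K ≤ U := sup_le inf_le_right hKU
  -- odd index
  have h3 : ¬ 2 ∣ ((S : Subgroup G) ⊓ U).relIndex U := by
    have hS' : IsPGroup 2 ((S : Subgroup G).subgroupOf ((S : Subgroup G) ⊔ U)) :=
      S.isPGroup'.comap_of_injective _ (Subgroup.subtype_injective _)
    have hSi : ¬ 2 ∣ ((S : Subgroup G).subgroupOf ((S : Subgroup G) ⊔ U)).index :=
      Basic.not_dvd_relIndex S le_sup_left
    have hUn : (U.subgroupOf ((S : Subgroup G) ⊔ U)).Normal :=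
      (normal_subgroupOf_iff_le_normalizer le_sup_right).2 (sup_le hS le_normalizer)
    have h4 := Lib.SylowNormalInf.not_dvd_relIndex (hS'.toSylow hSi) (U.subgroupOf ((S : Subgroup G) ⊔ U))
    have h5 : (S : Subgroup G).relIndex U =
        ((S : Subgroup G).subgroupOf ((S : Subgroup G) ⊔ U)).relIndex (U.subgroupOf ((S : Subgroup G) ⊔ U)) :=
      (Subgroup.relIndex_subgroupOf le_sup_right).symm
    rw [Subgroup.inf_relIndex_right, h5]
    exact h4
  -- 2-power index
  have hn : (K.subgroupOf U).Normal := (normal_subgroupOf_iff_le_normalizer hKU).2 hUK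
  have h4 : IsPGroup 2 (U ⧸ K.subgroupOf U) := by
    intro x
    obtain ⟨g, rfl⟩ := QuotientGroup.mk_surjective x
    obtain ⟨n, hn1⟩ := h2 g g.2
    refine ⟨n, ?_⟩
    rw [← QuotientGroup.mk_pow, QuotientGroup.eq_one_iff, mem_subgroupOf]
    exact hn1
  obtain ⟨m, hm⟩ := IsPGroup.iff_card.1 h4
  have h5 : K.relIndex U = 2 ^ m := hm
  have h6 : (((S : Subgroup G) ⊓ U) ⊔ K).relIndex U ∣ 2 ^ m := by
    rw [← h5]
    exact Dvd.intro_left _ (relIndex_mul_relIndex K _ U le_sup_right hle)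
  have h7 : ¬ 2 ∣ (((S : Subgroup G) ⊓ U) ⊔ K).relIndex U := fun h8 =>
    h3 (h8.trans (Dvd.intro_left _ (relIndex_mul_relIndex _ _ U le_sup_left hle)))
  obtain ⟨k, -, hk⟩ := (Nat.dvd_prime_pow Nat.prime_two).1 h6
  have h8 : k = 0 := by
    by_contra h0
    apply h7
    rw [hk]
    exact dvd_pow_self 2 h0
  rw [h8, pow_zero, relIndex_eq_one] at hk
  exact hk

/-- `S` induces all upper unitriangular matrices -/
theorem exists_up (t : F) : ∃ s ∈ (S : Subgroup G), M.Ind s (up t) := by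
  obtain ⟨g, hg⟩ := M.lift (up t)
  have hgU : g ∈ UU M := ⟨t, hg⟩
  have h1 := le_sup_inf (S := S) (U := UU M) (K := centralizer (vv (S : Subgroup G) : Set G)) h.S_norm_UU cent_le_UU
    (UU_le.trans (DBlkReduce.nc _)) (fun g hg => ⟨1, by rw [pow_one, pow_two]; exact UU_sq hg⟩) hgU
  obtain ⟨s, hs, c, hc, rfl⟩ := COneLinB.exists_mul_of_mem_sup
    ((inf_le_left.trans h.S_le_LL).trans (DBlkReduce.nc _)) h1
  refine ⟨s, hs.1, ?_⟩
  have h2 := ind_mul M (A := up t) (B := 1) (h := c⁻¹) hg (ind_of_cent M (inv_mem hc))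
  rwa [mul_inv_cancel_right, mul_one] at h2

/-- `Z ≤ F e₁` -/
theorem zc_line {x : Fin 2 → F} (hx : M.e x ∈ zc (S : Subgroup G)) : x = x 0 • e₁ F := by
  obtain ⟨s, hs, hu⟩ := h.exists_up 1
  have h1 := (fix_iff M (h.S_le_LL hs) x).1 ((ChoiceBase.mem_zc.1 hx).2.2 s hs)
  rw [M.act_of_ind hu, ap_up] at h1
  have h2 := congrFun h1 0
  simp only [Matrix.cons_val_zero, one_mul, add_eq_left] at h2
  conv_lhs => rw [vec_eq x, h2, zero_smul, add_zero]

theorem mem_zc_iff {x : Fin 2 → F} : M.e x ∈ zc (S : Subgroup G) ↔ ∀ s ∈ (S : Subgroup G), M.act s x = x := by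
  constructor
  · intro hx s hs
    exact (fix_iff M (h.S_le_LL hs) x).1 ((ChoiceBase.mem_zc.1 hx).2.2 s hs)
  · intro hx
    exact h.ens.mem_zc_of_comm (M.e_mem x) fun s hs => (fix_iff M (h.S_le_LL hs) x).2 (hx s hs)

omit h in
variable (M) in
/-- the field automorphism of `g ∈ L` -/
noncomputable def sig (g : G) : RingAut F :=
  open Classical in if hg : g ∈ normalizer (vv (S : Subgroup G) : Set G) then M.sg ⟨g, hg⟩ else 1

omit h in
theorem sig_spec {g : G} (hg : g ∈ normalizer (vv (S : Subgroup G) : Set G)) (c : F) (x : Fin 2 → F) :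
    M.act g (c • x) = sig M g c • M.act g x := by
  rw [sig, dif_pos hg]
  exact M.sg_spec ⟨g, hg⟩ c x

omit h in
theorem sig_eq_sgHom (g : normalizer (vv (S : Subgroup G) : Set G)) : sig M g = M.sgHom g := by
  rw [sig, dif_pos g.2]
  rfl

omit h in
theorem sig_mul {g k : G} (hg : g ∈ normalizer (vv (S : Subgroup G) : Set G))
    (hk : k ∈ normalizer (vv (S : Subgroup G) : Set G)) : sig M (g * k) = sig M g * sig M k := by
  have h1 := sig_eq_sgHom (M := M) ⟨g, hg⟩
  have h2 := sig_eq_sgHom (M := M) ⟨k, hk⟩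
  have h3 := sig_eq_sgHom (M := M) (⟨g, hg⟩ * ⟨k, hk⟩)
  rw [map_mul] at h3
  change sig M g = _ at h1
  change sig M k = _ at h2
  change sig M (g * k) = _ at h3
  rw [h1, h2, h3]

omit h in
theorem sig_pow {g : G} (hg : g ∈ normalizer (vv (S : Subgroup G) : Set G)) (n : ℕ) :
    sig M (g ^ n) = sig M g ^ n := by
  have h1 := sig_eq_sgHom (M := M) ⟨g, hg⟩
  have h3 := sig_eq_sgHom (M := M) (⟨g, hg⟩ ^ n)
  rw [map_pow] at h3
  change sig M g = _ at h1
  change sig M (g ^ n) = _ at h3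
  rw [h1, h3]

omit h in
theorem sig_one : sig M 1 = 1 := by
  have h3 := sig_eq_sgHom (M := M) 1
  rw [map_one] at h3
  exact h3

omit h in
theorem sig_eq_one {g : G} (hg : g ∈ normalizer (vv (S : Subgroup G) : Set G)) {x : Fin 2 → F} (hx : x ≠ 0)
    (hc : ∀ c : F, M.act g (c • x) = c • M.act g x) : sig M g = 1 := by
  ext c
  have h1 := sig_spec (M := M) hg c x
  rw [hc] at h1
  exact (smul_left_injective F (M.act_ne_zero hg hx) h1).symm

omit h in
theorem sig_of_ind {g : G} {A : Matrix.SpecialLinearGroup (Fin 2) F} (hA : M.Ind g A) : sig M g = 1 := by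
  refine sig_eq_one (M.mem_normalizer hA) (x := e₁ F) e₁_ne fun c => ?_
  rw [M.act_of_ind hA, M.act_of_ind hA, ap_smul]

omit h in
variable (M) in
/-- the field automorphisms induced by `S` -/
noncomputable def sigS : Subgroup (RingAut F) :=
  ((S : Subgroup G).subgroupOf (normalizer (vv (S : Subgroup G) : Set G))).map M.sgHom

theorem mem_sigS {τ : RingAut F} : τ ∈ sigS M ↔ ∃ s ∈ (S : Subgroup G), sig M s = τ := by
  constructor
  · rintro ⟨s, hs, rfl⟩
    exact ⟨s, hs, sig_eq_sgHom s⟩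
  · rintro ⟨s, hs, rfl⟩
    exact ⟨⟨s, h.S_le_LL hs⟩, hs, (sig_eq_sgHom (M := M) ⟨s, h.S_le_LL hs⟩).symm⟩

theorem isPGroup_sigS : IsPGroup 2 (sigS M) :=
  (S.isPGroup'.comap_of_injective _ (Subgroup.subtype_injective _)).map _

theorem act_S {s : G} (hs : s ∈ (S : Subgroup G)) (c : F) : M.act s (c • e₁ F) = sig M s c • e₁ F := by
  rw [sig_spec (h.S_le_LL hs), h.act_e1 hs]

/-- `Z = F₀ e₁`, `F₀` the fixed field of `S` -/
theorem mem_zc_smul {c : F} : M.e (c • e₁ F) ∈ zc (S : Subgroup G) ↔ ∀ τ ∈ sigS M, τ c = c := by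
  rw [h.mem_zc_iff]
  constructor
  · intro hc τ hτ
    obtain ⟨s, hs, rfl⟩ := h.mem_sigS.1 hτ
    have := hc s hs
    rw [h.act_S hs] at this
    exact smul_e₁_inj this
  · intro hc s hs
    rw [h.act_S hs, hc _ (h.mem_sigS.2 ⟨s, hs, rfl⟩)]

/-- an automorphism of odd order fixing `F₀` is trivial -/
theorem sigma_eq_one {τ : RingAut F} (hτ : ∀ c, (∀ ρ ∈ sigS M, ρ c = c) → τ c = c) {m : ℕ} (hm : Odd m)
    (hτm : τ ^ m = 1) : τ = 1 := by
  have h1 := mem_of_fix (sigS M) τ hτ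
  obtain ⟨k, hk⟩ := h.isPGroup_sigS ⟨τ, h1⟩
  have hk' : τ ^ 2 ^ k = 1 := congrArg Subtype.val hk
  have h2 : orderOf τ ∣ m := orderOf_dvd_of_pow_eq_one hτm
  have h3 : orderOf τ ∣ 2 ^ k := orderOf_dvd_of_pow_eq_one hk'
  exact orderOf_eq_one_iff.1 (Nat.eq_one_of_dvd_coprimes (Nat.Coprime.pow_right k (Nat.coprime_two_right.2 hm)) h2 h3)

/-- the image of `L` in `Aut V` has cyclic odd Sylow subgroups -/
theorem cyc_range : OddCyc (vv (S : Subgroup G)).normalizerMonoidHom.range :=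
  T1Structure.oddCyc_of_surjective (CompBasic.oddCyc_subgroup h.ens.hyp.cyc _)
    (vv (S : Subgroup G)).normalizerMonoidHom.rangeRestrict (MonoidHom.rangeRestrict_surjective _)

omit h in
/-- equality in `L / C_L(V)` -/
theorem eq_of_act {g k : G} (hg : g ∈ normalizer (vv (S : Subgroup G) : Set G))
    (hk : k ∈ normalizer (vv (S : Subgroup G) : Set G)) :
    (vv (S : Subgroup G)).normalizerMonoidHom ⟨g, hg⟩ = (vv (S : Subgroup G)).normalizerMonoidHom ⟨k, hk⟩ ↔
      ∀ x, M.act g x = M.act k x := by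
  constructor
  · intro he x
    apply M.e_inj
    rw [M.e_act hg, M.e_act hk]
    have := congrArg (fun φ : MulAut (vv (S : Subgroup G)) => ((φ ⟨M.e x, M.e_mem x⟩ : vv (S : Subgroup G)) : G)) he
    exact this
  · intro he
    ext v
    obtain ⟨x, hx⟩ := (M.mem_iff (v : G)).1 v.2
    have h1 : ((vv (S : Subgroup G)).normalizerMonoidHom ⟨g, hg⟩ v : G) = g * v * g⁻¹ := rfl
    have h2 : ((vv (S : Subgroup G)).normalizerMonoidHom ⟨k, hk⟩ v : G) = k * v * k⁻¹ := rfl
    rw [h1, h2, ← hx, ← M.e_act hg, ← M.e_act hk, he]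

omit h in
theorem act_pow_eig {g : G} (hg : g ∈ normalizer (vv (S : Subgroup G) : Set G)) (hl : sig M g = 1) {x : Fin 2 → F}
    {μ : F} (hx : M.act g x = μ • x) (n : ℕ) : M.act (g ^ n) x = μ ^ n • x := by
  induction n with
  | zero => rw [pow_zero, pow_zero, M.act_one, one_smul]
  | succ n ih =>
    rw [pow_succ, M.act_mul (pow_mem hg n) hg, hx, sig_spec (pow_mem hg n), ih, smul_smul, sig_pow hg, hl, one_pow,
      pow_succ, mul_comm (μ ^ n)]
    rfl

/-- (T1) -/
theorem t_one {t : G} (ht : t ∈ normalizer (vv (S : Subgroup G) : Set G)) (ho : Odd (orderOf t))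
    (hz : ∀ z ∈ zc (S : Subgroup G), t * z = z * t) : t ∈ centralizer (vv (S : Subgroup G) : Set G) := by
  have hte : M.act t (e₁ F) = e₁ F := (fix_iff M ht _).1 (hz _ h.e1)
  -- `t` is linear
  have hσ : sig M t = 1 := by
    refine h.sigma_eq_one (fun c hc => ?_) ho (by rw [← sig_pow ht, pow_orderOf_eq_one, sig_one])
    have h1 := (fix_iff M ht _).1 (hz _ (h.mem_zc_smul.2 hc))
    rw [sig_spec ht, hte] at h1
    exact smul_e₁_inj h1
  have hlin : ∀ (c : F) x, M.act t (c • x) = c • M.act t x := fun c x => by rw [sig_spec ht, hσ]; rfl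
  obtain ⟨c, hc⟩ : ∃ c, c = (M.act t (e₂ F)) 0 := ⟨_, rfl⟩
  obtain ⟨μ, hμ⟩ : ∃ μ, μ = (M.act t (e₂ F)) 1 := ⟨_, rfl⟩
  have he2 : M.act t (e₂ F) = c • e₁ F + μ • e₂ F := by rw [hc, hμ]; exact vec_eq _
  by_cases hμ1 : μ = 1
  · -- `t` acts as a transvection
    have h1 : ∀ x, M.act t x = ap (up c) x := by
      intro x
      conv_lhs => rw [vec_eq x]
      rw [M.act_add ht, hlin, hlin, hte, he2, hμ1, one_smul, ap_up]
      apply ext2
      · simp [mul_comm]
      · simp
    have h2 : t ∈ UU M := ⟨c, M.ind_of_act ht h1⟩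
    have h3 := UU_sq h2
    obtain ⟨k, hk⟩ := ho
    have h4 : t = (t * t) ^ (k + 1) := by
      rw [← pow_two, ← pow_mul]
      have h5 : 2 * (k + 1) = orderOf t + 1 := by rw [hk]; ring
      rw [h5, pow_succ, pow_orderOf_eq_one, one_mul]
    rw [h4]
    exact pow_mem h3 _
  · exfalso
    -- an eigenvector `w` for `μ`
    have hμ1' : μ - 1 ≠ 0 := sub_ne_zero.2 hμ1
    obtain ⟨d, hd⟩ : ∃ d, d = c * (μ - 1)⁻¹ := ⟨_, rfl⟩
    have hd' : c + d = μ * d := by
      have : d * (μ - 1) = c := by rw [hd, mul_assoc, inv_mul_cancel₀ hμ1', mul_one]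
      have h2 : (2 : F) = 0 := CharTwo.two_eq_zero
      linear_combination -this
    obtain ⟨w, hw⟩ : ∃ w, w = e₂ F + d • e₁ F := ⟨_, rfl⟩
    have hwt : M.act t w = μ • w := by
      rw [hw, M.act_add ht, hlin, hte, he2, smul_add, smul_smul, ← hd', add_smul]
      abel
    have hμ0 : μ ≠ 0 := by
      intro h0
      rw [h0, zero_smul] at hwt
      have hw0 : w ≠ 0 := by
        intro h1
        have := congrFun h1 1
        rw [hw] at this
        simp at this
      exact M.act_ne_zero ht hw0 hwt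
    -- a power of prime order
    have hom : orderOf μ ≠ 1 := fun h1 => hμ1 (orderOf_eq_one_iff.1 h1)
    obtain ⟨s, hs, hsμ⟩ := Nat.exists_prime_and_dvd hom
    obtain ⟨k, hk⟩ := hsμ
    have hμk : (μ ^ k) ^ s = 1 := by rw [← pow_mul, mul_comm, ← hk, pow_orderOf_eq_one]
    have hμpos : 0 < orderOf μ := by
      rw [orderOf_pos_iff]
      have h1 := FiniteField.pow_card_sub_one_eq_one μ hμ0
      have h4 := h.four
      exact isOfFinOrder_iff_pow_eq_one.2 ⟨_, by omega, h1⟩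
    have hμk1 : μ ^ k ≠ 1 := by
      intro h1
      have h2 := orderOf_dvd_of_pow_eq_one h1
      have hk0 : 0 < k := Nat.pos_of_ne_zero fun h0 => by rw [h0, mul_zero] at hk; omega
      have h3 := Nat.le_of_dvd hk0 h2
      rw [hk] at h3
      have := hs.two_le
      nlinarith
    have hs2 : s ≠ 2 := by
      rintro rfl
      have h1 : (μ ^ k - 1) ^ 2 = 0 := by
        have h2 : (2 : F) = 0 := CharTwo.two_eq_zero
        linear_combination hμk + (1 - μ ^ k) * h2
      exact hμk1 (sub_eq_zero.1 (pow_eq_zero_iff two_ne_zero |>.1 h1))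
    obtain ⟨ν, hν⟩ : ∃ ν, ν = μ ^ k := ⟨_, rfl⟩
    rw [← hν] at hμk hμk1
    have hν0 : ν ≠ 0 := by rw [hν]; exact pow_ne_zero _ hμ0
    -- the diagonal element in the basis `e₁, w`
    have hwB : ap (up d) (e₂ F) = w := by
      rw [ap_up, hw]
      apply ext2 <;> simp
    have hwB1 : ap (up d) (e₁ F) = e₁ F := ap_up_e d
    obtain ⟨b, hb⟩ := M.lift (up d * dg ν hν0 * (up d)⁻¹)
    have hbI : M.Ind b (up d * dg ν hν0 * (up d)⁻¹) := hb
    have hbV := M.mem_normalizer hbI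
    have hbe : M.act b (e₁ F) = ν • e₁ F := by
      rw [M.act_of_ind hbI, ap_mul, ap_mul]
      have h1 : ap (up d)⁻¹ (e₁ F) = e₁ F := by
        conv_lhs => rw [← hwB1]
        exact ap_inv_ap _ _
      rw [h1, ap_dg]
      have h2 : ![ν * (e₁ F) 0, ν⁻¹ * (e₁ F) 1] = ν • e₁ F := by apply ext2 <;> simp
      rw [h2, ap_smul, hwB1]
    have hbw : M.act b w = ν⁻¹ • w := by
      rw [M.act_of_ind hbI, ap_mul, ap_mul]
      have h1 : ap (up d)⁻¹ w = e₂ F := by
        rw [← hwB]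
        exact ap_inv_ap _ _
      rw [h1, ap_dg]
      have h2 : ![ν * (e₂ F) 0, ν⁻¹ * (e₂ F) 1] = ν⁻¹ • e₂ F := by apply ext2 <;> simp
      rw [h2, ap_smul, hwB]
    have hbσ : sig M b = 1 := sig_of_ind hbI
    -- `a = t ^ k`
    have haV : t ^ k ∈ normalizer (vv (S : Subgroup G) : Set G) := pow_mem ht k
    have haσ : sig M (t ^ k) = 1 := by rw [sig_pow ht, hσ, one_pow]
    have hae : M.act (t ^ k) (e₁ F) = e₁ F := by
      have := act_pow_eig (M := M) ht hσ (x := e₁ F) (μ := 1) (by rw [one_smul, hte]) k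
      rwa [one_pow, one_smul] at this
    have haw : M.act (t ^ k) w = ν • w := by rw [hν]; exact act_pow_eig ht hσ hwt k
    -- maps agreeing on `e₁, w`
    have hspan : ∀ x : Fin 2 → F, ∃ p r : F, x = p • e₁ F + r • w := fun x => ⟨x 0 - x 1 * d, x 1, by
      rw [hw]
      apply ext2
      · simp
      · simp⟩
    have hext : ∀ {g k : G} (hg : g ∈ normalizer (vv (S : Subgroup G) : Set G))
        (hk : k ∈ normalizer (vv (S : Subgroup G) : Set G)), sig M g = 1 → sig M k = 1 →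
        M.act g (e₁ F) = M.act k (e₁ F) → M.act g w = M.act k w → ∀ x, M.act g x = M.act k x := by
      intro g k hg hk h1 h2 h3 h4 x
      obtain ⟨p, r, rfl⟩ := hspan x
      rw [M.act_add hg, M.act_add hk, sig_spec hg, sig_spec hg, sig_spec hk, sig_spec hk, h1, h2, h3, h4]
    set f := (vv (S : Subgroup G)).normalizerMonoidHom with hf
    set A : f.range := f.rangeRestrict ⟨t ^ k, haV⟩ with hA
    set B : f.range := f.rangeRestrict ⟨b, hbV⟩ with hB
    have hAB : A * B = B * A := by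
      rw [hA, hB, ← map_mul, ← map_mul]
      apply Subtype.ext
      change f (⟨t ^ k, haV⟩ * ⟨b, hbV⟩) = f (⟨b, hbV⟩ * ⟨t ^ k, haV⟩)
      refine (eq_of_act (M := M) (mul_mem haV hbV) (mul_mem hbV haV)).2 ?_
      refine hext (mul_mem haV hbV) (mul_mem hbV haV) (by rw [sig_mul haV hbV, haσ, hbσ, one_mul])
        (by rw [sig_mul hbV haV, haσ, hbσ, one_mul]) ?_ ?_
      · rw [M.act_mul haV hbV, M.act_mul hbV haV, hae, hbe, sig_spec haV, haσ, hae]
        rfl
      · rw [M.act_mul haV hbV, M.act_mul hbV haV, haw, hbw, sig_spec haV, haσ, haw, sig_spec hbV, hbσ, hbw]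
        change ν⁻¹ • ν • w = ν • ν⁻¹ • w
        rw [smul_comm]
    have hApow : A ^ s = 1 := by
      rw [hA, ← map_pow]
      apply Subtype.ext
      change f (⟨t ^ k, haV⟩ ^ s) = 1
      rw [← map_one f]
      refine (eq_of_act (M := M) (pow_mem haV s) (one_mem _)).2 ?_
      refine hext (pow_mem haV s) (one_mem _) (by rw [sig_pow haV, haσ, one_pow]) sig_one ?_ ?_
      · have := act_pow_eig (M := M) haV haσ (x := e₁ F) (μ := 1) (by rw [one_smul, hae]) s
        rw [this, one_pow, one_smul, M.act_one]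
      · rw [act_pow_eig haV haσ haw, hμk, one_smul, M.act_one]
    have hBpow : B ^ s = 1 := by
      rw [hB, ← map_pow]
      apply Subtype.ext
      change f (⟨b, hbV⟩ ^ s) = 1
      rw [← map_one f]
      refine (eq_of_act (M := M) (pow_mem hbV s) (one_mem _)).2 ?_
      refine hext (pow_mem hbV s) (one_mem _) (by rw [sig_pow hbV, hbσ, one_pow]) sig_one ?_ ?_
      · rw [act_pow_eig hbV hbσ hbe, hμk, one_smul, M.act_one]
      · rw [act_pow_eig hbV hbσ hbw, inv_pow, hμk, inv_one, one_smul, M.act_one]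
    have hA1 : A ≠ 1 := by
      intro h1
      have h2 : f ⟨t ^ k, haV⟩ = f 1 := by rw [map_one]; exact congrArg Subtype.val h1
      have h3 := (eq_of_act (M := M) haV (one_mem _)).1 h2 w
      rw [haw, M.act_one] at h3
      have hw0 : w ≠ 0 := by
        intro h1
        have := congrFun h1 1
        rw [hw] at this
        simp at this
      apply hμk1
      have h4 : ν • w = (1 : F) • w := by rw [h3, one_smul]
      exact smul_left_injective F hw0 h4
    have hB1 : B ≠ 1 := by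
      intro h1
      have h2 : f ⟨b, hbV⟩ = f 1 := by rw [map_one]; exact congrArg Subtype.val h1
      have h3 := (eq_of_act (M := M) hbV (one_mem _)).1 h2 (e₁ F)
      rw [hbe, M.act_one] at h3
      apply hμk1
      have h4 : ν • e₁ F = (1 : F) • e₁ F := by rw [h3, one_smul]
      exact smul_e₁_inj h4
    obtain ⟨j, hj⟩ := mem_zpowers_of_commute h.cyc_range hs hs2 hAB hApow hA1 hBpow hB1
    -- `B = A ^ j` fixes `e₁`
    obtain ⟨n, hn⟩ : ∃ n : ℕ, A ^ n = B := by
      obtain ⟨n, hn⟩ := (Submonoid.mem_powers_iff _ _).1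
        ((mem_powers_iff_mem_zpowers).2 ⟨j, hj⟩ : B ∈ Submonoid.powers A)
      exact ⟨n, hn⟩
    have h5 : f (⟨t ^ k, haV⟩ ^ n) = f ⟨b, hbV⟩ := by
      rw [map_pow]
      exact congrArg Subtype.val hn
    have h6 := (eq_of_act (M := M) (pow_mem haV n) hbV).1 h5 (e₁ F)
    have h7 := act_pow_eig (M := M) haV haσ (x := e₁ F) (μ := 1) (by rw [one_smul, hae]) n
    rw [h7, one_pow, hbe] at h6
    exact hμk1 (smul_e₁_inj h6).symm

end NF

end Cfsg.Agent.OddCyclic.EmpN
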