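import Cfsg.Agent.OddCyclic.EmpN.OfLin
import Cfsg.Agent.OddCyclic.EmpN.Coord
import Cfsg.Agent.OddCyclic.EmpFF
import Cfsg.Agent.Omega.NatPair.Of

/-!
# (Empty)-III: from the FF list to coordinates of `V = vv S`

`exists_nf`: `FFRep S r ρ ι`, `Lin ρ L F₀` give `NF S I N M`.
-/

set_option autoImplicit false
set_option linter.unusedSectionVars false

namespace Cfsg.Agent.OddCyclic.EmpN

open Subgroup Cfsg Cfsg.Agent.ZN Cfsg.Agent.ZN.ChoiceBase Cfsg.Agent.ZN.ChoiceSit
open Cfsg.Agent.MinSimple Cfsg.Agent.MinSimple.EmptyTI Cfsg.Agent.MinSimple.EmptySix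
open Cfsg.Agent.MinSimple.EmptyE.Closed (LL CC vv_comm vv_sq vv_mul_self vv_inv
  isPGroup_vv vv_le_jj vv_le jj_le_centralizer_vv conj_mem_vv cj_vv)
open Cfsg.Agent.OddCyclic.EmpFrame
open Cfsg.Agent.OddCyclic.T1Defs (OddCyc)
open Cfsg.Agent.OddCyclic.FFBasic Cfsg.Agent.OddCyclic.RedRep
open Cfsg.Agent.OddCyclic.T1Module (CS)
open Cfsg.Agent.Omega.NatPair

universe u

variable {G : Type u} [Group G] [Finite G] {S : Sylow 2 G} {I N : Subgroup G}

/-- the Sylow 2-subgroup `T ∩ L` of `L ≅ SL₂(F)` has order `|F|` -/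
theorem card_inf_sylow {H : Type*} [Group H] [Finite H] {T L : Subgroup H} (hT : IsPGroup 2 T) (hi : ¬ 2 ∣ T.index)
    (hL : L.Normal) {F : Type*} [Field F] [Fintype F] [CharP F 2] (e : L ≃* Matrix.SpecialLinearGroup (Fin 2) F) :
    Nat.card (T.subgroupOf L) = Fintype.card F := by
  have h2p : Fact (Nat.Prime 2) := ⟨Nat.prime_two⟩
  have h1 : IsPGroup 2 ((T.subgroupOf L).map e.toMonoidHom) :=
    (hT.comap_of_injective _ L.subtype_injective).map _
  have h2 : ¬ 2 ∣ ((T.subgroupOf L).map e.toMonoidHom).index := by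
    have h3 : ((T.subgroupOf L).map e.toMonoidHom).index = (T.subgroupOf L).index := Subgroup.index_map_equiv _ e
    rw [h3]
    exact Lib.SylowNormalInf.not_dvd_relIndex (hT.toSylow hi) L
  have h3 := T1Sl2.card_sylow (h1.toSylow h2)
  rw [← h3]
  exact (Subgroup.card_map_of_injective (K := T.subgroupOf L) e.injective).symm

theorem exists_nf {H V : Type u} [Group H] [CommGroup V] [Finite H] [Finite V] {r : LL (S : Subgroup G) →* H}
    {ρ : H →* MulAut V} {ι : V →* G} (hens : ENS S) (hI : TIData (S : Subgroup G) I)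
    (hJ : JP (S : Subgroup G) I N) (h : EmpFF.FFRep S r ρ ι) {L : Subgroup H} {F₀ : Type} [Field F₀] [Fintype F₀]
    [CharP F₀ 2] (hl : EmpFFList.Lin ρ L F₀) :
    ∃ (F : Type) (_ : Field F) (_ : Fintype F) (_ : CharP F 2) (M : NatMod F (vv (S : Subgroup G))), NF S I N M := by
  classical
  obtain ⟨e₀⟩ := hl.iso
  obtain ⟨T, hTdef⟩ : ∃ T, T = im (LL (S : Subgroup G)) (S : Subgroup G) r := ⟨_, rfl⟩
  have hT2 : IsPGroup 2 T := hTdef ▸ h.gen.two
  have hTi : ¬ 2 ∣ T.index := hTdef ▸ h.gen.index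
  have hcT := card_inf_sylow hT2 hTi hl.norm e₀
  have hcTL : Nat.card (T ⊓ L : Subgroup H) = Fintype.card F₀ := by
    rw [← hcT, ← Subgroup.inf_subgroupOf_right]
    exact (Nat.card_congr (subgroupOfEquivOfLe inf_le_right).toEquiv).symm
  have hsyl := hl.syl (T ⊓ L) inf_le_right (hT2.to_le inf_le_left) hcTL
  let act : MulDistribMulAction L V := MulDistribMulAction.compHom V (ρ.comp L.subtype)
  have hsm : ∀ (x : L) (v : V), x • v = ρ (x : H) v := fun x v => rfl
  obtain ⟨F, i1, i2, i3, φ, e, hcF, hmul, hsurj, hker, hφ, hU, -⟩ := exists_coord (L := L) (V := V) e₀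
    (fun v => h.gen.sq v)
    (by
      intro x hx
      apply Subtype.ext
      apply h.rep.inj
      ext v
      rw [OneMemClass.coe_one, map_one]
      exact hx v)
    (by
      intro v hv
      have h1 : v ∈ CS ρ L := fun l hl' => hv ⟨l, hl'⟩
      rw [hl.bot] at h1
      exact Subgroup.mem_bot.1 h1)
    hl.card (T.subgroupOf L) (hT2.comap_of_injective _ L.subtype_injective) hcT (CS ρ (T ⊓ L))
    (by
      intro v
      constructor
      · intro hv t ht
        exact hv t ⟨mem_subgroupOf.1 ht, t.2⟩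
      · intro hv t ht
        exact hv ⟨t, ht.2⟩ (mem_subgroupOf.2 ht.1))
    hsyl.1
    (by
      intro t ht ht1 v hv
      rw [← hsyl.2 t ⟨mem_subgroupOf.1 ht, t.2⟩ fun h1 => ht1 (Subtype.ext h1)]
      exact hv)
  -- a point of `Z`
  obtain ⟨z, hz, hz1⟩ := (zc (S : Subgroup G)).bot_or_exists_ne_one.resolve_left hens.zc_ne_bot
  obtain ⟨v₀, rfl⟩ := h.rep.exists_v (zc_le_vv _ hz)
  have hv₀ : v₀ ∈ CS ρ (T ⊓ L) := by
    intro t ht
    have h1 := ht.1
    rw [hTdef] at h1
    obtain ⟨x, hx, rfl⟩ := h1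
    exact h.rep.fix.2 ((ChoiceBase.mem_zc.1 hz).2.2 x (mem_subgroupOf.1 hx))
  have he0 : e v₀ 1 = 0 := (hU v₀).1 hv₀
  obtain ⟨c, hc⟩ : ∃ c, c = e v₀ 0 := ⟨_, rfl⟩
  have hc0 : c ≠ 0 := by
    intro h0
    apply hz1
    have h1 : e v₀ = 0 := ext2 (by rw [← hc, h0]; rfl) (by rw [he0]; rfl)
    rw [(hker v₀).1 h1, map_one]
  have hinj : Function.Injective e := by
    intro v w hvw
    have h1 : e (v * w⁻¹) = 0 := by
      have h2 := hmul (v * w⁻¹) w
      rw [inv_mul_cancel_right, hvw] at h2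
      exact right_eq_add.1 h2
    exact mul_inv_eq_one.1 ((hker _).1 h1)
  let ε : V → (Fin 2 → F) := fun v => c⁻¹ • e v
  have hεb : Function.Bijective ε := by
    constructor
    · intro v w hvw
      apply hinj
      have h1 : c⁻¹ • e v = c⁻¹ • e w := hvw
      exact smul_right_injective _ (inv_ne_zero hc0) h1
    · intro y
      obtain ⟨v, hv⟩ := hsurj (c • y)
      exact ⟨v, by change c⁻¹ • e v = y; rw [hv, smul_smul, inv_mul_cancel₀ hc0, one_smul]⟩
  let E : V ≃ (Fin 2 → F) := Equiv.ofBijective ε hεb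
  have hE : ∀ v, E v = c⁻¹ • e v := fun v => rfl
  have hEmul : ∀ v w, E (v * w) = E v + E w := fun v w => by rw [hE, hE, hE, hmul, smul_add]
  have hEρ : ∀ (l : L) (v : V), E (ρ (l : H) v) = ap (φ l) (E v) := by
    intro l v
    have h1 := hφ l v
    rw [hsm] at h1
    rw [hE, hE, h1, ← ap_eq_mulVec, ap_smul]
  have hEs : ∀ (l : L) (y : Fin 2 → F), ρ (l : H) (E.symm y) = E.symm (ap (φ l) y) := by
    intro l y
    apply E.injective
    rw [hEρ, E.apply_symm_apply, E.apply_symm_apply]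
  let M : NatMod F (vv (S : Subgroup G)) :=
    { e := fun x => ι (E.symm x)
      e_add := fun x y => by
        rw [← map_mul]
        congr 1
        apply E.injective
        rw [hEmul, E.apply_symm_apply, E.apply_symm_apply, E.apply_symm_apply]
      e_inj := fun x y hxy => E.symm.injective (h.rep.iinj hxy)
      mem_iff := fun g => by
        constructor
        · intro hg
          obtain ⟨v, rfl⟩ := h.rep.exists_v hg
          exact ⟨E v, by rw [E.symm_apply_apply]⟩
        · rintro ⟨x, rfl⟩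
          exact h.rep.mem _
      lift := fun A => by
        obtain ⟨x, hx⟩ := h.rep.surj ((φ.symm A : L) : H)
        refine ⟨x, fun y => ?_⟩
        rw [← h.rep.act, hx, hEs, φ.apply_symm_apply]
      norm := fun g hg k A hA => by
        have hk : k ∈ LL (S : Subgroup G) := by
          change k ∈ normalizer (vv (S : Subgroup G) : Set G)
          rw [mem_normalizer_iff_cj]
          refine Subgroup.eq_of_le_of_card_ge ?_ (Subgroup.card_map_of_injective (MulAut.conj k).injective).ge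
          rintro _ ⟨v, hv, rfl⟩
          obtain ⟨w, rfl⟩ := h.rep.exists_v hv
          have h1 := hA (E w)
          rw [E.symm_apply_apply] at h1
          change k * ι w * k⁻¹ ∈ _
          rw [h1]
          exact h.rep.mem _
        have h1 : r ⟨k, hk⟩ = ((φ.symm A : L) : H) := by
          apply h.rep.inj
          ext v
          apply h.rep.iinj
          rw [h.rep.act]
          have h2 := hA (E v)
          rw [E.symm_apply_apply] at h2
          change k * ι v * k⁻¹ = _
          rw [h2]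
          have h3 := hEs (φ.symm A) (E v)
          rw [E.symm_apply_apply, φ.apply_symm_apply] at h3
          rw [h3]
        have hl' : r ⟨g, hg⟩ * ((φ.symm A : L) : H) * (r ⟨g, hg⟩)⁻¹ ∈ L := hl.norm.conj_mem _ (φ.symm A).2 _
        refine ⟨φ ⟨_, hl'⟩, fun y => ?_⟩
        have h3 := h.rep.act (⟨g, hg⟩ * ⟨k, hk⟩ * ⟨g, hg⟩⁻¹) (E.symm y)
        have h5 : r (⟨g, hg⟩ * ⟨k, hk⟩ * ⟨g, hg⟩⁻¹) = r ⟨g, hg⟩ * ((φ.symm A : L) : H) * (r ⟨g, hg⟩)⁻¹ := by
          rw [map_mul, map_mul, map_inv, h1]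
        rw [h5] at h3
        have h4 := hEs ⟨_, hl'⟩ y
        rw [← h4]
        exact h3.symm }
  refine ⟨F, i1, i2, i3, M, hens, hI, hJ, ?_, ?_⟩
  · have h1 : Nat.card F = Fintype.card F₀ := by rw [hcF, hcT]
    rw [← Nat.card_eq_fintype_card, h1]
    exact hl.four
  · change ι (E.symm ![1, 0]) ∈ _
    have h1 : E.symm ![1, 0] = v₀ := by
      apply E.injective
      rw [E.apply_symm_apply, hE]
      apply ext2
      · simp [← hc, inv_mul_cancel₀ hc0]
      · simp [he0]
    rw [h1]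
    exact hz

end Cfsg.Agent.OddCyclic.EmpN
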