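import Cfsg.Agent.OddCyclic.EmpN.Two
import Cfsg.Agent.OddCyclic.EmpLine.Defs
import Cfsg.Agent.OddCyclic.A4ELayer

/-!
# (Empty)-III, (6.2): the S3-line `F₄ e₁` as `EmpLine.SLine`
-/

set_option autoImplicit false
set_option linter.unusedSectionVars false

namespace Cfsg.Agent.OddCyclic.EmpN

open Subgroup Cfsg Cfsg.Agent.ZN Cfsg.Agent.ZN.ChoiceBase Cfsg.Agent.ZN.ChoiceSit
open Cfsg.Agent.MinSimple Cfsg.Agent.MinSimple.EmptyTI Cfsg.Agent.MinSimple.EmptySix
open Cfsg.Agent.MinSimple.EmptyE.Closed (LL CC cl mem_cl cl_eq cl_le vv_comm vv_sq vv_mul_self vv_inv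
  isPGroup_vv vv_le_jj vv_le jj_le_centralizer_vv conj_mem_vv cj_vv)
open Cfsg.Agent.OddCyclic.EmpFrame
open Cfsg.Agent.OddCyclic.T1Defs (OddCyc)
open Cfsg.Agent.Omega.NatPair Cfsg.Agent.Lib.SL2Mat

universe u

variable {G : Type u} [Group G] [Finite G] {S : Sylow 2 G} {I N : Subgroup G}
  {F : Type} [Field F] [Fintype F] [CharP F 2] {M : NatMod F (vv (S : Subgroup G))}

namespace NF

variable (h : NF S I N M)

include h

theorem uni_two (hq : Nat.card h.KK = 2) {U : Subgroup G} (hU : U ≤ vv (S : Subgroup G))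
    (hS : (S : Subgroup G) ≤ normalizer (U : Set G)) :
    U ≤ zpowers (M.e (e₁ F)) ∨ se M (fx F (2 * 1)) ≤ U := by
  by_cases hline : ∀ x : Fin 2 → F, M.e x ∈ U → x 1 = 0
  · -- `U ≤ F e₁`
    have hUe : ∀ u ∈ U, ∃ c : F, M.e (c • e₁ F) = u := by
      intro u hu
      obtain ⟨x, rfl⟩ := (M.mem_iff u).1 (hU hu)
      refine ⟨x 0, ?_⟩
      congr 1
      conv_rhs => rw [vec_eq x, hline x hu, zero_smul, add_zero]
    by_cases hUz : U ≤ zpowers (M.e (e₁ F))
    · exact Or.inl hUz
    right
    have hcz : ∀ s ∈ (S : Subgroup G), ∀ e ∈ zpowers (M.e (e₁ F)), s * e * s⁻¹ ∈ zpowers (M.e (e₁ F)) := by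
      intro s hs e he
      have h1 : Commute s (M.e (e₁ F)) := (ChoiceBase.mem_zc.1 h.e1).2.2 s hs
      obtain ⟨n, rfl⟩ := mem_zpowers_iff.1 he
      rw [(h1.zpow_right n).eq, mul_inv_cancel_right]
      exact zpow_mem (mem_zpowers _) n
    have hUn : ∀ s ∈ (S : Subgroup G), ∀ u ∈ U, s * u * s⁻¹ ∈ U := fun s hs u hu => (mem_normalizer_iff.1 (hS hs) u).1 hu
    -- `z ∈ U`
    have hz2 : M.e (e₁ F) * M.e (e₁ F) = 1 := M.sq (M.e_mem _)
    have hzU : M.e (e₁ F) ∈ U := by
      have hne : ¬ U ≤ ⊥ := fun hb => hUz (hb.trans bot_le)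
      obtain ⟨w, hw, hw1, hwS⟩ := A4ELayer.exists_central_mod (S := (S : Subgroup G)) (N := U) (E := ⊥) S.isPGroup'
        (hU.trans vv_le) (fun s _ e he => by rw [Subgroup.mem_bot.1 he]; simp) hUn hne
      have h1 : w ∈ zc (S : Subgroup G) := h.ens.mem_zc_of_comm (hU hw) fun s hs => by
        have h2 := Subgroup.mem_bot.1 (hwS s hs)
        calc s * w = s * w * s⁻¹ * w⁻¹ * (w * s) := by group
          _ = w * s := by rw [h2, one_mul]
      rw [h.zc_eq_of_two hq, Geo.mem_zpowers_iff_of_mul_self hz2] at h1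
      rcases h1 with h1 | h1
      · exact absurd (Subgroup.mem_bot.2 h1) hw1
      · rwa [h1] at hw
    obtain ⟨w, hw, hwz, hwS⟩ := A4ELayer.exists_central_mod (S := (S : Subgroup G)) (N := U)
      (E := zpowers (M.e (e₁ F))) S.isPGroup' (hU.trans vv_le) hcz hUn hUz
    obtain ⟨c, rfl⟩ := hUe w hw
    -- `c ∈ F₄`
    have hε : ∀ τ ∈ sigS M, τ c = c ∨ τ c = c + 1 := by
      intro τ hτ
      obtain ⟨s, hs, rfl⟩ := h.mem_sigS.1 hτ
      have h1 := hwS s hs
      rw [← M.e_act (h.S_le_LL hs), h.act_S hs, ← M.e_sub, ← sub_smul, Geo.mem_zpowers_iff_of_mul_self hz2] at h1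
      rcases h1 with h1 | h1
      · left
        have h2 : (sig M s c - c) • e₁ F = 0 := M.e_eq_one.1 h1
        rcases smul_eq_zero.1 h2 with h3 | h3
        · exact sub_eq_zero.1 h3
        · exact absurd h3 e₁_ne
      · right
        have h2 : (sig M s c - c) • e₁ F = (1 : F) • e₁ F := by rw [one_smul]; exact M.e_inj h1
        have h3 := smul_e₁_inj h2
        linear_combination h3
    have hcK : c * c + c ∈ h.KK := by
      refine h.mem_KK_of_fix fun τ hτ => ?_
      have h2 : (2 : F) = 0 := CharTwo.two_eq_zero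
      rw [map_add, map_mul]
      rcases hε τ hτ with h1 | h1
      · rw [h1]
      · rw [h1]
        linear_combination (c + 1) * h2
    have hc01 : c * c + c = 1 := by
      rcases h.eq_of_mem_KK hq hcK with h1 | h1
      · exfalso
        have h2 : c * (c + 1) = 0 := by linear_combination h1
        apply hwz
        rcases mul_eq_zero.1 h2 with h3 | h3
        · rw [h3, zero_smul, M.e_zero]; exact one_mem _
        · have h4 : c = 1 := by
            rw [← CharTwo.add_eq_zero]
            exact h3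
          rw [h4, one_smul]; exact mem_zpowers _
      · exact h1
    -- the elements of `F₄`
    have h2 : (2 : F) = 0 := CharTwo.two_eq_zero
    have hcc : (c + 1) * (c + 1) = c := by linear_combination hc01 + (1 : F) * c * h2 + h2 - c * h2
    rintro _ ⟨d, hd, rfl⟩
    have hd4 : d ^ 4 = d := by
      have := mem_fx.1 hd
      norm_num at this
      exact this
    have hprod : d * (d + 1) * (d + c) * (d + c + 1) = 0 := by
      linear_combination hd4 + (d * d + d) * hc01 + (d ^ 3 + d ^ 2 * c + d * c) * h2 + d * h2 +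
        (d ^ 2 - d * c + d ^ 3 * c) * h2
    have hmem : ∀ a b : F, M.e (a • e₁ F) ∈ U → M.e (b • e₁ F) ∈ U → M.e ((a + b) • e₁ F) ∈ U := by
      intro a b ha hb
      rw [add_smul, M.e_add]
      exact mul_mem ha hb
    have h1U : M.e ((1 : F) • e₁ F) ∈ U := by rw [one_smul]; exact hzU
    rcases mul_eq_zero.1 hprod with h3 | h3
    · rcases mul_eq_zero.1 h3 with h4 | h4
      · rcases mul_eq_zero.1 h4 with h5 | h5
        · rw [h5, zero_smul, M.e_zero]; exact one_mem _
        · have : d = 1 := (CharTwo.add_eq_zero).1 h5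
          rw [this]; exact h1U
      · have : d = c := (CharTwo.add_eq_zero).1 h4
        rw [this]; exact hw
    · have : d = c + 1 := by
        rw [add_assoc] at h3
        exact (CharTwo.add_eq_zero).1 h3
      rw [this]; exact hmem _ _ hw h1U
  · right
    push Not at hline
    obtain ⟨x, hx, hx1⟩ := hline
    rintro _ ⟨c, -, rfl⟩
    obtain ⟨s, hs, hu⟩ := h.exists_up (c * (x 1)⁻¹)
    have h1 := (mem_normalizer_iff.1 (hS hs) _).1 hx
    rw [hu x] at h1
    have h2 := mul_mem h1 (inv_mem hx)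
    rw [← M.e_sub, ap_up] at h2
    have h3 : ![x 0 + c * (x 1)⁻¹ * x 1, x 1] - x = c • e₁ F := by
      apply ext2
      · simp [inv_mul_cancel_right₀ hx1]
      · simp
    rwa [h3] at h2

/-- the S3-line -/
theorem sline (hq : Nat.card h.KK = 2) : ∃ V z, EmpLine.SLine S V z := by
  have hl := h.s3l_se hq
  refine ⟨_, _, { ens := h.ens
                  z_ne := hl.z_ne
                  zc_eq := hl.zc_eq
                  card_V := hl.card_V
                  V_le := hl.le_vv
                  z_mem := hl.z_mem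
                  S_norm := hl.T_norm
                  trans := hl.trans
                  two_three := ?_
                  uni := fun U hU hS => h.uni_two hq hU hS
                  core := hl.core }⟩
  intro c hc hcz
  obtain ⟨k, m, hm, hkm⟩ := Nat.exists_eq_pow_mul_and_not_dvd (orderOf_pos c).ne' 2 (by norm_num)
  refine ⟨k, 0, ?_⟩
  rw [pow_zero, mul_one]
  refine h.t_one (pow_mem hc _) ?_ ?_
  · rw [orderOf_pow' c (by positivity), hkm, Nat.gcd_mul_right_left, Nat.mul_div_cancel_left _ (by positivity)]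
    exact Nat.odd_iff.2 (by omega)
  · intro z hz
    rw [h.zc_eq_of_two hq] at hz
    obtain ⟨n, rfl⟩ := mem_zpowers_iff.1 hz
    exact ((show Commute c (M.e (e₁ F)) from hcz).pow_left _).zpow_right n

end NF

end Cfsg.Agent.OddCyclic.EmpN
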