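import Cfsg.Agent.OddCyclic.EmpN.Kill
import Cfsg.Agent.OddCyclic.EmpN.SL
import Cfsg.Agent.OddCyclic.EmpN.OfFF
import Cfsg.Agent.OddCyclic.EmpN.EvA

/-!
# (Empty)-III, (ii): `V` a natural `SL₂(2ⁿ)`-module

`main`: `FFRep S r ρ ι` and `Lin ρ L F₀` give an S3-line.
-/

set_option autoImplicit false
set_option linter.unusedSectionVars false

namespace Cfsg.Agent.OddCyclic.EmpN

open Subgroup Cfsg Cfsg.Agent.ZN Cfsg.Agent.ZN.ChoiceBase Cfsg.Agent.ZN.ChoiceSit
open Cfsg.Agent.MinSimple Cfsg.Agent.MinSimple.EmptyTI Cfsg.Agent.MinSimple.EmptySix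
open Cfsg.Agent.MinSimple.EmptyE.Closed (LL CC vv_comm vv_sq vv_mul_self vv_inv
  isPGroup_vv vv_le_jj vv_le jj_le_centralizer_vv conj_mem_vv cj_vv)
open Cfsg.Agent.OddCyclic.EmpFrame
open Cfsg.Agent.OddCyclic.T1Defs (OddCyc)
open Cfsg.Agent.Omega.NatPair

universe u

variable {G : Type u} [Group G] [Finite G] {S : Sylow 2 G} {I N : Subgroup G}
  {F : Type} [Field F] [Fintype F] [CharP F 2] {M : NatMod F (vv (S : Subgroup G))}

namespace NF

variable (h : NF S I N M)

include h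

/-- (ii) with `|K| > 2` is impossible -/
theorem card_KK (hs : CompStart.SecZero G) : Nat.card h.KK = 2 := by
  have hc := h.ens.hyp.cyc
  have hNc : ∀ {W : Subgroup G}, W ≤ vv (S : Subgroup G) → ∀ t ∈ N, Odd (orderOf t) →
      t ∈ normalizer (jj (S : Subgroup G) : Set G) → t ∈ centralizer (W : Set G) := fun hW t ht ho hn =>
    centralizer_le hW (h.cent_of_N ht (h.nj_le hn) ho)
  obtain ⟨f, hf, hf1⟩ := card_K_pow h.KK
  by_contra hne
  have hf2 : 2 ≤ f := by
    by_contra hlt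
    have h1 : f = 1 := by omega
    rw [h1, pow_one] at hf
    exact hne hf
  by_cases hK : h.KK = ⊤
  · obtain ⟨m, hm, hm2⟩ := h.card_F_pow
    have hmf : m = f := by
      have h2 : Nat.card (⊤ : Subfield F) = Nat.card F := Nat.card_congr Subfield.topEquiv.toEquiv
      rw [hK, h2, Nat.card_eq_fintype_card (α := F), hm] at hf
      exact Nat.pow_right_injective le_rfl hf
    subst hmf
    refine (h.lnA hK hm hm2).false_of hc hs ?_ (hNc le_rfl) (fun p hp hd => h.cFour hp (by rw [hf]; exact hd))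
      (fun ho => h.fsA hK hm ho)
    intro y h1 h2 h3
    exact h.evA hK hs h1 h2 h3
  · have hl := h.lnB hf hf2 hK
    exact hl.false_of hc hs (hl.ev hf2) (hNc (se_le M _)) (fun p hp hd => h.cFour hp (by rw [hf]; exact hd))
      (fun ho => h.fsB hf ho)

end NF

/-- **(ii)** -/
theorem main {H V : Type u} [Group H] [CommGroup V] [Finite H] [Finite V] {r : LL (S : Subgroup G) →* H}
    {ρ : H →* MulAut V} {ι : V →* G} (h : ENS S) (hs : CompStart.SecZero G) (hr : EmpFF.FFRep S r ρ ι)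
    {L : Subgroup H} {F₀ : Type} [Field F₀] [Fintype F₀] [CharP F₀ 2] (hl : EmpFFList.Lin ρ L F₀) :
    ∃ V z, EmpLine.SLine S V z := by
  obtain ⟨I, hI⟩ := h.exists_tiData
  obtain ⟨N, hN⟩ := h.exists_jp hI
  obtain ⟨F, _, _, _, M, hM⟩ := exists_nf h hI hN hr hl
  exact hM.sline (hM.card_KK hs)

end Cfsg.Agent.OddCyclic.EmpN
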