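import Mathlib

/-!
# (Empty)-III, section 6: subfields of a finite field of characteristic 2

`T` a 2-group of automorphisms of `F`, `F₀` its fixed field, `F₀ ≤ K ≤ F`:

* `card_eq`: `|F| = |K| ^ 2 ^ b`; `fix_of_odd`: `|K| = 2 ^ f`, `f` odd: `T` is trivial on `K`;
* `KT K`: the elements with `c ^ q ^ 2 = c`, `q = |K|`; `card_KT`: `|KT K| = q ^ 2` for `K ≠ F`;
* `add_mem`, `fix_or`: automorphisms trivial on `K` act on `KT K` trivially or as `c ↦ c ^ q`.
-/

set_option autoImplicit false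
set_option linter.unusedSectionVars false

namespace Cfsg.Agent.OddCyclic.EmpN

open Subgroup

section card

variable {F : Type*} [Field F] [Finite F]

theorem card_pow_sub (K : Subfield F) : ∃ n, Nat.card F = Nat.card K ^ n := by
  have h1 := Module.natCard_eq_pow_finrank (K := K) (V := F)
  exact ⟨_, h1⟩

theorem card_pow_sub' {K L : Subfield F} (h : K ≤ L) : ∃ n, Nat.card L = Nat.card K ^ n := by
  let _ : Algebra K L := (Subfield.inclusion h).toAlgebra
  have h1 := Module.natCard_eq_pow_finrank (K := K) (V := L)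
  exact ⟨_, h1⟩

theorem two_le_card (K : Subfield F) : 2 ≤ Nat.card K := by
  have : Nontrivial K := inferInstance
  have h1 := Finite.one_lt_card (α := K)
  omega

theorem card_fix (T : Subgroup (RingAut F)) {a : ℕ} (hT : Nat.card T = a) :
    Nat.card F = Nat.card (FixedPoints.subfield T F) ^ a := by
  classical
  have : Finite (RingAut F) :=
    Finite.of_injective (fun τ : RingAut F => (τ : F → F)) (fun a b h => RingEquiv.ext (fun x => congrFun h x))
  have : Fintype T := Fintype.ofFinite _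
  have h1 := FixedPoints.finrank_eq_card T F
  have h2 := Module.natCard_eq_pow_finrank (K := FixedPoints.subfield T F) (V := F)
  rw [h1] at h2
  rw [h2, ← hT, Nat.card_eq_fintype_card (α := T)]

theorem mem_fix {T : Subgroup (RingAut F)} {c : F} : c ∈ FixedPoints.subfield T F ↔ ∀ τ ∈ T, τ c = c :=
  ⟨fun h τ hτ => h ⟨τ, hτ⟩, fun h τ => h τ τ.2⟩

theorem card_eq_both {T : Subgroup (RingAut F)} (hT : IsPGroup 2 T) {K : Subfield F}
    (hK : ∀ c, (∀ τ ∈ T, τ c = c) → c ∈ K) :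
    ∃ j b, Nat.card K = Nat.card (FixedPoints.subfield T F) ^ 2 ^ j ∧ Nat.card F = Nat.card K ^ 2 ^ b := by
  have : Finite (RingAut F) :=
    Finite.of_injective (fun τ : RingAut F => (τ : F → F)) (fun a b h => RingEquiv.ext (fun x => congrFun h x))
  obtain ⟨a, ha⟩ := IsPGroup.iff_card.1 hT
  have h1 := card_fix T ha
  have hle : FixedPoints.subfield T F ≤ K := fun c hc => hK c (mem_fix.1 hc)
  obtain ⟨m, hm⟩ := card_pow_sub' hle
  obtain ⟨n, hn⟩ := card_pow_sub K
  have h2 := two_le_card (FixedPoints.subfield T F)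
  have h3 : m * n = 2 ^ a := by
    rw [hn, hm, ← pow_mul] at h1
    exact Nat.pow_right_injective h2 h1
  obtain ⟨j, -, hj⟩ := (Nat.dvd_prime_pow Nat.prime_two).1 (Dvd.intro _ h3)
  obtain ⟨b, -, hb⟩ := (Nat.dvd_prime_pow Nat.prime_two).1 (Dvd.intro_left _ h3)
  exact ⟨j, b, by rw [hm, hj], by rw [hn, hb]⟩

theorem card_eq {T : Subgroup (RingAut F)} (hT : IsPGroup 2 T) {K : Subfield F}
    (hK : ∀ c, (∀ τ ∈ T, τ c = c) → c ∈ K) : ∃ b, Nat.card F = Nat.card K ^ 2 ^ b := by
  obtain ⟨j, b, -, h⟩ := card_eq_both hT hK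
  exact ⟨b, h⟩

theorem fix_of_odd [CharP F 2] {T : Subgroup (RingAut F)} (hT : IsPGroup 2 T) {K : Subfield F}
    (hK : ∀ c, (∀ τ ∈ T, τ c = c) → c ∈ K) {f : ℕ} (hf : Odd f) (hKf : Nat.card K = 2 ^ f) :
    ∀ τ ∈ T, ∀ c ∈ K, τ c = c := by
  obtain ⟨j, b, h1, -⟩ := card_eq_both hT hK
  have hle : FixedPoints.subfield T F ≤ K := fun c hc => hK c (mem_fix.1 hc)
  have h2 : Nat.card (FixedPoints.subfield T F) ∣ 2 ^ f := by
    rw [← hKf, h1]
    exact dvd_pow_self _ (by positivity)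
  obtain ⟨f₀, -, hf₀⟩ := (Nat.dvd_prime_pow Nat.prime_two).1 h2
  rw [hf₀, ← pow_mul, hKf] at h1
  have h3 : f = f₀ * 2 ^ j := Nat.pow_right_injective le_rfl h1
  have hj : j = 0 := by
    by_contra hj
    rw [h3] at hf
    exact (Nat.not_odd_iff_even.2 (((Nat.even_pow' hj).2 even_two).mul_left f₀)) hf
  rw [hj, pow_zero, mul_one] at h3
  have h4 : FixedPoints.subfield T F = K := by
    apply SetLike.coe_injective
    refine Set.eq_of_subset_of_ncard_le hle ?_ (Set.toFinite _)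
    change Nat.card K ≤ Nat.card (FixedPoints.subfield T F)
    rw [hKf, hf₀, h3]
  intro τ hτ c hc
  rw [← h4] at hc
  exact mem_fix.1 hc τ hτ

end card

section KT

variable {F : Type*} [Field F] [Fintype F] [CharP F 2] (K : Subfield F)

theorem card_K_pow : ∃ f, Nat.card K = 2 ^ f ∧ 1 ≤ f := by
  have h1 : CharP K 2 := (algebraMap K F).charP (algebraMap K F).injective 2
  have : Fintype K := Fintype.ofFinite _
  obtain ⟨n, -, hn⟩ := FiniteField.card K 2
  exact ⟨n, by rw [Nat.card_eq_fintype_card, hn], n.2⟩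

/-- `c ↦ c ^ q` is additive -/
theorem add_pow_q {F : Type*} [Field F] [CharP F 2] {f : ℕ} (a b : F) : (a + b) ^ 2 ^ f = a ^ 2 ^ f + b ^ 2 ^ f := add_pow_char_pow a b 2 f

theorem pow_q_eq {c : F} (hc : c ∈ K) : c ^ Nat.card K = c := by
  have : Fintype K := Fintype.ofFinite _
  have h1 := FiniteField.pow_card (⟨c, hc⟩ : K)
  rw [Nat.card_eq_fintype_card]
  exact congrArg Subtype.val h1

/-- the elements with `c ^ 2 ^ n = c` -/
def fx (F : Type*) [Field F] [CharP F 2] (n : ℕ) : Subfield F where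
  carrier := {c | c ^ 2 ^ n = c}
  mul_mem' := by
    intro a b ha hb
    change (a * b) ^ 2 ^ n = a * b
    rw [mul_pow, ha, hb]
  one_mem' := one_pow _
  add_mem' := by
    intro a b ha hb
    change (a + b) ^ 2 ^ n = a + b
    rw [add_pow_q, ha, hb]
  zero_mem' := zero_pow (by positivity)
  neg_mem' := by
    intro a ha
    change (-a) ^ 2 ^ n = -a
    rw [CharTwo.neg_eq, ha]
  inv_mem' := by
    intro a ha
    change a⁻¹ ^ 2 ^ n = a⁻¹
    rw [inv_pow, ha]

theorem mem_fx {n : ℕ} {c : F} : c ∈ fx F n ↔ c ^ 2 ^ n = c := Iff.rfl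

theorem card_fx_le {n : ℕ} (hn : 1 ≤ n) : Nat.card (fx F n) ≤ 2 ^ n := by
  classical
  have h2 : 1 < 2 ^ n := Nat.one_lt_two_pow (by omega)
  have h1 : (fx F n : Set F) ⊆ ((Polynomial.X ^ 2 ^ n - Polynomial.X : Polynomial F).roots.toFinset : Set F) := by
    intro c hc
    rw [Finset.mem_coe, Multiset.mem_toFinset, Polynomial.mem_roots (FiniteField.X_pow_card_sub_X_ne_zero F h2)]
    change Polynomial.eval c _ = 0
    rw [Polynomial.eval_sub, Polynomial.eval_pow, Polynomial.eval_X, mem_fx.1 hc, sub_self]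
  have h3 := Set.ncard_le_ncard h1 (Set.toFinite _)
  rw [Set.ncard_coe_finset] at h3
  refine le_trans h3 ((Multiset.toFinset_card_le _).trans ((Polynomial.card_roots' _).trans ?_))
  rw [FiniteField.X_pow_card_sub_X_natDegree_eq F h2]

theorem card_fx {n m : ℕ} (hn : 1 ≤ n) (hm : Nat.card F = (2 ^ n) ^ m) : Nat.card (fx F n) = 2 ^ n := by
  refine le_antisymm (card_fx_le hn) ?_
  have h2 : 1 < 2 ^ n := Nat.one_lt_two_pow (by omega)
  -- an element of order `2 ^ n - 1`
  have h3 : 2 ^ n - 1 ∣ Nat.card Fˣ := by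
    rw [Nat.card_units, hm]
    simpa using Nat.sub_dvd_pow_sub_pow (2 ^ n) 1 m
  obtain ⟨g, hg⟩ := IsCyclic.exists_generator (α := Fˣ)
  obtain ⟨k, hk⟩ := h3
  have hcard : orderOf g = Nat.card Fˣ := orderOf_eq_card_of_forall_mem_zpowers hg
  have hpos : 0 < Nat.card Fˣ := Nat.card_pos
  have hk0 : k ≠ 0 := by
    rintro rfl
    rw [mul_zero] at hk
    omega
  have h4 : orderOf (g ^ k) = 2 ^ n - 1 := by
    rw [orderOf_pow' g hk0, hcard, hk, Nat.gcd_mul_left_left, Nat.mul_div_cancel _ (Nat.pos_of_ne_zero hk0)]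
  have h5 : Nat.card (Option (Subgroup.zpowers (g ^ k))) ≤ Nat.card (fx F n) := by
    refine Nat.card_le_card_of_injective
      (fun o => Option.elim o (0 : fx F n) fun u => ⟨((u : Fˣ) : F), ?_⟩) ?_
    · rw [mem_fx]
      have h6 : (u : Fˣ) ^ (2 ^ n - 1) = 1 := by
        rw [← h4, ← Nat.card_zpowers]
        have := pow_card_eq_one' (x := u)
        exact congrArg Subtype.val this
      have h7 : (u : Fˣ) ^ 2 ^ n = u := by
        have h8 : 2 ^ n = (2 ^ n - 1) + 1 := by omega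
        rw [h8, pow_succ, h6, one_mul]
      exact congrArg Units.val h7
    · rintro (_ | c) (_ | d) he
      · rfl
      · exact absurd (congrArg Subtype.val he).symm (Units.ne_zero _)
      · exact absurd (congrArg Subtype.val he) (Units.ne_zero _)
      · have := congrArg Subtype.val he
        exact congrArg some (Subtype.ext (Units.ext this))
  rw [Finite.card_option, Nat.card_zpowers, h4] at h5
  omega

theorem mem_K_iff {f : ℕ} (hf : Nat.card K = 2 ^ f) {c : F} : c ∈ K ↔ c ^ 2 ^ f = c := by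
  have hf1 : 1 ≤ f := by
    rcases Nat.eq_zero_or_pos f with rfl | h
    · have := two_le_card K
      rw [hf] at this
      norm_num at this
    · exact h
  have hle : K ≤ fx F f := fun c hc => by
    rw [mem_fx, ← hf]
    exact pow_q_eq K hc
  have h4 : K = fx F f := by
    apply SetLike.coe_injective
    refine Set.eq_of_subset_of_ncard_le hle ?_ (Set.toFinite _)
    change Nat.card (fx F f) ≤ Nat.card K
    rw [hf]
    exact card_fx_le hf1
  conv_lhs => rw [h4]
  exact mem_fx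

/-- the elements with `c ^ q ^ 2 = c` for `q = |K| = 2 ^ f` -/
theorem K_le_fx {f : ℕ} (hf : Nat.card K = 2 ^ f) : K ≤ fx F (2 * f) := by
  intro c hc
  have h1 := (mem_K_iff K hf).1 hc
  rw [mem_fx, two_mul, pow_add, pow_mul, h1, h1]

theorem card_KT {f b : ℕ} (hf : Nat.card K = 2 ^ f) (hb : Nat.card F = Nat.card K ^ 2 ^ b) (hK : K ≠ ⊤) :
    Nat.card (fx F (2 * f)) = 2 ^ (2 * f) := by
  have hf1 : 1 ≤ f := by
    rcases Nat.eq_zero_or_pos f with rfl | h
    · have := two_le_card K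
      rw [hf] at this
      norm_num at this
    · exact h
  have hb0 : b ≠ 0 := by
    rintro rfl
    apply hK
    rw [pow_zero, pow_one] at hb
    apply SetLike.coe_injective
    refine Set.eq_of_subset_of_ncard_le (Set.subset_univ _) ?_ (Set.toFinite _)
    rw [Subfield.coe_top, Set.ncard_univ, hb]
    exact le_rfl
  obtain ⟨b, rfl⟩ := Nat.exists_eq_succ_of_ne_zero hb0
  refine card_fx (m := 2 ^ b) (by omega) ?_
  rw [hb, hf, ← pow_mul, ← pow_mul]
  congr 1
  rw [pow_succ]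
  ring

variable {K}

/-- conjugates over `K` -/
theorem fix_or {f : ℕ} (hf : Nat.card K = 2 ^ f) {σ : F ≃+* F} (hσ : ∀ c ∈ K, σ c = c) {c : F}
    (hc : c ∈ fx F (2 * f)) : σ c = c ∨ σ c = c ^ 2 ^ f := by
  have hc2 : (c ^ 2 ^ f) ^ 2 ^ f = c := by
    rw [← pow_mul, ← pow_add, ← two_mul]; exact hc
  have ha : c + c ^ 2 ^ f ∈ K := by
    rw [mem_K_iff K hf, add_pow_q, hc2, add_comm]
  have hb : c * c ^ 2 ^ f ∈ K := by
    rw [mem_K_iff K hf, mul_pow, hc2, mul_comm]
  have ha' := hσ _ ha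
  have hb' := hσ _ hb
  have h1 : (σ c - c) * (σ c - c ^ 2 ^ f) = 0 := by
    have h2 : (c - c) * (c - c ^ 2 ^ f) = 0 := by rw [sub_self, zero_mul]
    have h3 : σ c * σ c - (σ c + σ (c ^ 2 ^ f)) * σ c + σ c * σ (c ^ 2 ^ f) = 0 := by ring
    rw [map_add] at ha'
    rw [map_mul] at hb'
    rw [ha', hb'] at h3
    linear_combination h3
  rcases mul_eq_zero.1 h1 with h2 | h2
  · exact Or.inl (sub_eq_zero.1 h2)
  · exact Or.inr (sub_eq_zero.1 h2)

theorem add_mem_K {f : ℕ} (hf : Nat.card K = 2 ^ f) {σ : F ≃+* F} (hσ : ∀ c ∈ K, σ c = c) {c : F}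
    (hc : c ∈ fx F (2 * f)) : σ c - c ∈ K := by
  have hc2 : (c ^ 2 ^ f) ^ 2 ^ f = c := by
    rw [← pow_mul, ← pow_add, ← two_mul]; exact hc
  rcases fix_or hf hσ hc with h1 | h1
  · rw [h1, sub_self]; exact K.zero_mem
  · rw [h1, CharTwo.sub_eq_add, mem_K_iff K hf, add_pow_q, hc2, add_comm]

theorem fix_all_of {f : ℕ} (hf : Nat.card K = 2 ^ f) {σ : F ≃+* F} (hσ : ∀ c ∈ K, σ c = c) {c : F}
    (hc : c ∈ fx F (2 * f)) (hcK : c ∉ K) (h : σ c = c) : ∀ d ∈ fx F (2 * f), σ d = d := by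
  intro d hd
  by_contra hne
  have h1 := (fix_or hf hσ hd).resolve_left hne
  rcases fix_or hf hσ ((fx F (2 * f)).add_mem hc hd) with h2 | h2
  · rw [map_add, h, add_right_inj] at h2
    exact hne h2
  · rw [map_add, h, h1, add_pow_q, add_left_inj] at h2
    exact hcK ((mem_K_iff K hf).2 h2.symm)

end KT

end Cfsg.Agent.OddCyclic.EmpN
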