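import Cfsg.Agent.OddCyclic.EmpN.YV
import Cfsg.Agent.OddCyclic.EmpN.Fields
import Cfsg.Agent.OddCyclic.GeoC

/-!
# (Empty)-III, (6.2): S3-lines

* `S3L S I N Λ z`: an S3-line `Λ ≤ V` in the frame (Empty);
* `s3l_of`: `z ∈ Λ ≤ V`, `|Λ| = 4`, `Z = ⟨z⟩`, `S ≤ N(Λ)`, `N(S) ∩ C(z) ≤ N(Λ) ≰ M`;
* `s3l_four`: the case `|V| = 4`;
* `se M E = E e₁`, `mem_norm_se`;
* `NF.s3l`: the case `|K| = 2`.
-/

set_option autoImplicit false
set_option linter.unusedSectionVars false

namespace Cfsg.Agent.OddCyclic.EmpN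

open Subgroup Cfsg Cfsg.Agent.ZN Cfsg.Agent.ZN.ChoiceBase Cfsg.Agent.ZN.ChoiceSit
open Cfsg.Agent.MinSimple Cfsg.Agent.MinSimple.EmptyTI Cfsg.Agent.MinSimple.EmptySix
open Cfsg.Agent.MinSimple.EmptyE.Closed (LL CC cl mem_cl cl_eq cl_le vv_comm vv_sq vv_mul_self vv_inv
  isPGroup_vv vv_le_jj vv_le jj_le_centralizer_vv conj_mem_vv cj_vv)
open Cfsg.Agent.OddCyclic.EmpFrame
open Cfsg.Agent.OddCyclic.T1Defs (OddCyc)
open Cfsg.Agent.Omega.NatPair Cfsg.Agent.Lib.SL2Mat
open Cfsg.Agent.OddCyclic.GeoC (GeoC)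

universe u

variable {G : Type u} [Group G] [Finite G] {S : Sylow 2 G} {I N : Subgroup G}

/-- an S3-line in the frame (Empty) -/
structure S3L (S : Sylow 2 G) (I N : Subgroup G) (V : Subgroup G) (z : G) : Prop extends
    GeoC (S : Subgroup G) V z where
  ens : ENS S
  ti : TIData (S : Subgroup G) I
  jp : JP (S : Subgroup G) I N
  zc_eq : zc (S : Subgroup G) = zpowers z
  le_vv : V ≤ vv (S : Subgroup G)
  le_zj : V ≤ zj (S : Subgroup G)
  jj_le : jj (S : Subgroup G) ≤ centralizer (V : Set G)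
  N_le : N ≤ centralizer ({z} : Set G)
  cz_le : centralizer ({z} : Set G) ≤ normalizer (I : Set G)
  not_le : ¬ normalizer (V : Set G) ≤ normalizer (I : Set G)

/-- the criterion -/
theorem s3l_of (he : ENS S) (hI : TIData (S : Subgroup G) I) (hN : JP (S : Subgroup G) I N) {V : Subgroup G} {z : G}
    (hV : V ≤ vv (S : Subgroup G)) (hc : Nat.card V = 4) (hz : z ∈ V) (hzc : zc (S : Subgroup G) = zpowers z)
    (hSV : (S : Subgroup G) ≤ normalizer (V : Set G)) (hn : ¬ normalizer (V : Set G) ≤ normalizer (I : Set G))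
    (hu : ∀ g ∈ normalizer ((S : Subgroup G) : Set G), g * z = z * g → g ∈ normalizer (V : Set G)) :
    S3L S I N V z := by
  have hzz : z ∈ zc (S : Subgroup G) := by rw [hzc]; exact mem_zpowers z
  have hz1 : z ≠ 1 := by
    rintro rfl
    apply he.zc_ne_bot
    rw [hzc, zpowers_one_eq_bot]
  have hz2 : z * z = 1 := by
    have := (ChoiceBase.mem_zc.1 hzz).2.1
    rwa [pow_two] at this
  have hcomm : ∀ a ∈ V, ∀ b ∈ V, a * b = b * a := fun a ha b hb => vv_comm (hV ha) (hV hb)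
  have hsq : ∀ a ∈ V, a * a = 1 := fun a ha => vv_mul_self (hV ha)
  have hCz : centralizer ({z} : Set G) ≤ normalizer (I : Set G) := ENS.centralizer_le_M hI hzz hz1
  have hNz : N ≤ centralizer ({z} : Set G) := by
    intro n hn
    rw [mem_centralizer_singleton_iff]
    exact (mem_centralizer_iff.1 (hN.le_centralizer he hI hn) z (hI.zc_le hzz)).symm
  have hSz : (S : Subgroup G) ≤ centralizer ({z} : Set G) := by
    intro s hs
    rw [mem_centralizer_singleton_iff]
    exact (ChoiceBase.mem_zc.1 hzz).2.2 s hs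
  obtain ⟨g, hgV, hgM⟩ := SetLike.not_le_iff_exists.1 hn
  -- `y = z ^ g`
  obtain ⟨y, hy⟩ : ∃ y, y = g * z * g⁻¹ := ⟨_, rfl⟩
  have hyV : y ∈ V := hy ▸ (mem_normalizer_iff.1 hgV z).1 hz
  have hyz : y ≠ z := by
    intro e
    apply hgM
    apply hCz
    rw [mem_centralizer_singleton_iff]
    rw [hy] at e
    calc g * z = g * z * g⁻¹ * g := by group
      _ = z * g := by rw [e]
  have hy1 : y ≠ 1 := by
    rw [hy]
    intro e
    exact hz1 (conj_eq_one_iff.1 e)
  -- some `s ∈ S` moves `y`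
  obtain ⟨s, hs, hsy⟩ : ∃ s ∈ (S : Subgroup G), s * y ≠ y * s := by
    by_contra hcon
    push Not at hcon
    have h1 := he.mem_zc_of_comm (hV hyV) hcon
    rw [hzc, Geo.mem_zpowers_iff_of_mul_self hz2] at h1
    rcases h1 with h1 | h1
    · exact hy1 h1
    · exact hyz h1
  -- the elements of `V`
  have hzy1 : z * y ≠ 1 := fun e => hyz (by
    have : y = z⁻¹ := (inv_eq_of_mul_eq_one_right e).symm
    rw [this, inv_eq_of_mul_eq_one_left hz2])
  have hfour : ∀ v ∈ V, v = 1 ∨ v = z ∨ v = y ∨ v = z * y := by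
    intro v hv
    have h1 : ({1, z, y, z * y} : Set G) ⊆ (V : Set G) := by
      rintro x (rfl | rfl | rfl | rfl)
      · exact V.one_mem
      · exact hz
      · exact hyV
      · exact V.mul_mem hz hyV
    have h2 : ({1, z, y, z * y} : Set G).ncard = 4 := by
      rw [Set.ncard_insert_of_notMem, Set.ncard_insert_of_notMem, Set.ncard_pair]
      · intro e
        exact hz1 (by simpa using e.symm)
      · rintro (e | e)
        · exact hyz e.symm
        · exact hy1 (by simpa using e.symm)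
      · rintro (e | e | e)
        · exact hz1 e.symm
        · exact hy1 e.symm
        · exact hzy1 e.symm
    have h3 : (V : Set G).ncard = 4 := by rw [← hc]; rfl
    have h4 : ({1, z, y, z * y} : Set G) = V := Set.eq_of_subset_of_ncard_le h1 (by rw [h2, h3]) (Set.toFinite _)
    have : v ∈ ({1, z, y, z * y} : Set G) := by rw [h4]; exact hv
    simpa using this
  have hsyV : s * y * s⁻¹ ∈ V := (mem_normalizer_iff.1 (hSV hs) y).1 hyV
  have hsyz : s * y * s⁻¹ = z * y := by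
    rcases hfour _ hsyV with h1 | h1 | h1 | h1
    · exact absurd (conj_eq_one_iff.1 h1) hy1
    · exfalso
      apply hyz
      have h2 : s * z = z * s := (ChoiceBase.mem_zc.1 hzz).2.2 s hs
      have h3 : s * y * s⁻¹ = s * z * s⁻¹ := by rw [h1, h2, mul_inv_cancel_right]
      exact mul_left_cancel (mul_right_cancel h3)
    · exact absurd (mul_inv_eq_iff_eq_mul.1 h1) hsy
    · exact h1
  have hT_syl : ∀ {K : Subgroup G}, (S : Subgroup G) ≤ K → ¬ 2 ∣ (S : Subgroup G).relIndex K := fun h =>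
    Basic.not_dvd_relIndex S h
  exact {
    charTwo := he.hyp.char2
    cyc := he.hyp.cyc
    two := S.isPGroup'
    T_le := hSz
    T_syl := hT_syl hSz
    V_le := hV.trans vv_le
    T_norm := hSV
    T_syl' := hT_syl hSV
    card_V := hc
    sq := hsq
    z_mem := hz
    z_ne := hz1
    trans := by
      intro v hv hv1
      rcases hfour v hv with h1 | h1 | h1 | h1
      · exact absurd h1 hv1
      · exact ⟨1, one_mem _, by rw [h1]; group⟩
      · exact ⟨g, hgV, by rw [h1, hy]⟩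
      · refine ⟨s * g, mul_mem (hSV hs) hgV, ?_⟩
        rw [h1, ← hsyz, hy]
        group
    soc := by
      intro t ht ht2 htc
      have h1 : t ∈ zc (S : Subgroup G) := ChoiceBase.mem_zc.2 ⟨ht, by rw [pow_two]; exact ht2, htc⟩
      rw [hzc] at h1
      exact (Geo.mem_zpowers_iff_of_mul_self hz2).1 h1
    core := by
      intro U hU h1 h2
      by_contra hU1
      have h3 : o2 (normalizer (U : Set G)) ≠ ⊥ := UniStruct.o2_normalizer_ne_bot hU hU1
      have h4 := hN.le_of_sylow he hI h3 (hSz.trans h2) (hNz.trans h2)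
      exact hgM (h4 (h1 hgV))
    uniq := hu
    ens := he
    ti := hI
    jp := hN
    zc_eq := hzc
    le_vv := hV
    le_zj := hV.trans (EmptySix.vv_le_zj _)
    jj_le := jj_le_centralizer_vv.trans (centralizer_le hV)
    N_le := hNz
    cz_le := hCz
    not_le := hn }

/-- the case `|V| = 4` -/
theorem s3l_four (he : ENS S) (hI : TIData (S : Subgroup G) I) (hN : JP (S : Subgroup G) I N)
    (hc : Nat.card (vv (S : Subgroup G)) = 4) : ∃ z, S3L S I N (vv (S : Subgroup G)) z := by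
  have hzle : zc (S : Subgroup G) ≤ vv (S : Subgroup G) := zc_le_vv _
  obtain ⟨z, hz, hz1⟩ := (zc (S : Subgroup G)).bot_or_exists_ne_one.resolve_left he.zc_ne_bot
  have hz2 : z * z = 1 := by
    have := (ChoiceBase.mem_zc.1 hz).2.1
    rwa [pow_two] at this
  have hzc : zc (S : Subgroup G) = zpowers z := by
    refine le_antisymm ?_ (zpowers_le.2 hz)
    -- `|zc| ∣ 4`, `≠ 4`
    have h1 : Nat.card (zc (S : Subgroup G)) ∣ 4 := by rw [← hc]; exact Subgroup.card_dvd_of_le hzle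
    have h2 : Nat.card (zc (S : Subgroup G)) ≠ 4 := by
      intro h3
      apply he.zc_ne_vv
      exact Subgroup.eq_of_le_of_card_ge hzle (by rw [h3, hc])
    have h4 : Nat.card (zpowers z) = 2 := by
      rw [Nat.card_zpowers]
      exact orderOf_eq_prime (by rw [pow_two]; exact hz2) hz1
    have h5 : Nat.card (zc (S : Subgroup G)) ≤ 2 := by
      have h6 := Nat.le_of_dvd (by norm_num) h1
      interval_cases Nat.card (zc (S : Subgroup G))
      all_goals first | omega | exact absurd h1 (by norm_num)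
    have h6 := Subgroup.eq_of_le_of_card_ge (H := zpowers z) (K := zc (S : Subgroup G)) (zpowers_le.2 hz)
      (by rw [h4]; exact h5)
    rw [← h6]
  exact ⟨z, s3l_of he hI hN le_rfl hc (hzle hz) hzc he.le_LL (he.not_LL_le hI) fun g hg _ => he.normalizer_self_le hg⟩

section se

variable {F : Type} [Field F] [Fintype F] [CharP F 2] {V : Subgroup G} (M : NatMod F V)

/-- `E e₁` for a subfield `E` -/
def se (E : Subfield F) : Subgroup G where
  carrier := {g | ∃ c ∈ E, M.e (c • e₁ F) = g}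
  mul_mem' := by
    rintro _ _ ⟨a, ha, rfl⟩ ⟨b, hb, rfl⟩
    exact ⟨a + b, E.add_mem ha hb, by rw [add_smul, M.e_add]⟩
  one_mem' := ⟨0, E.zero_mem, by rw [zero_smul, M.e_zero]⟩
  inv_mem' := by
    rintro _ ⟨a, ha, rfl⟩
    exact ⟨-a, E.neg_mem ha, by rw [neg_smul, M.e_neg]⟩

theorem mem_se {E : Subfield F} {g : G} : g ∈ se M E ↔ ∃ c ∈ E, M.e (c • e₁ F) = g := Iff.rfl

theorem e_mem_se {E : Subfield F} {c : F} : M.e (c • e₁ F) ∈ se M E ↔ c ∈ E := by
  constructor
  · rintro ⟨d, hd, he⟩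
    rwa [← smul_e₁_inj (M.e_inj he)]
  · intro hc
    exact ⟨c, hc, rfl⟩

theorem se_le (E : Subfield F) : se M E ≤ V := by
  rintro _ ⟨c, -, rfl⟩
  exact M.e_mem _

theorem card_se (E : Subfield F) : Nat.card (se M E) = Nat.card E := by
  refine (Nat.card_congr (Equiv.ofBijective
    (fun c : E => (⟨M.e ((c : F) • e₁ F), (e_mem_se M).2 c.2⟩ : se M E)) ⟨?_, ?_⟩)).symm
  · intro c d he
    exact Subtype.ext (smul_e₁_inj (M.e_inj (congrArg Subtype.val he)))
  · rintro ⟨g, c, hc, rfl⟩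
    exact ⟨⟨c, hc⟩, rfl⟩

theorem aut_mem_fx {n : ℕ} (σ : F ≃+* F) {c : F} (hc : c ∈ fx F n) : σ c ∈ fx F n := by
  rw [mem_fx, ← map_pow, mem_fx.1 hc]

end se

namespace NF

variable {F : Type} [Field F] [Fintype F] [CharP F 2]

theorem mem_norm_se {M : NatMod F (vv (S : Subgroup G))} {n : ℕ} {g : G}
    (hg : g ∈ normalizer (vv (S : Subgroup G) : Set G)) {d : F} (hd : d ∈ fx F n)
    (hgd : M.act g (e₁ F) = d • e₁ F) : g ∈ normalizer (se M (fx F n) : Set G) := by
  rw [mem_normalizer_iff_cj]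
  refine Subgroup.eq_of_le_of_card_ge ?_ ?_
  · rintro _ ⟨_, ⟨c, hc, rfl⟩, rfl⟩
    change g * M.e (c • e₁ F) * g⁻¹ ∈ _
    rw [← M.e_act hg, sig_spec hg, hgd, smul_smul]
    exact (e_mem_se M).2 ((fx F n).mul_mem (aut_mem_fx _ hc) hd)
  · exact (Subgroup.card_map_of_injective (MulAut.conj g).injective).ge

variable {M : NatMod F (vv (S : Subgroup G))} (h : NF S I N M)

include h

theorem KK_ne_top_of_two (hq : Nat.card h.KK = 2) : h.KK ≠ ⊤ := by
  intro e
  have h1 := h.four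
  rw [e] at hq
  have h2 : Nat.card (⊤ : Subfield F) = Nat.card F := Nat.card_congr Subfield.topEquiv.toEquiv
  rw [h2, Nat.card_eq_fintype_card] at hq
  omega

theorem eq_of_mem_KK (hq : Nat.card h.KK = 2) {c : F} (hc : c ∈ h.KK) : c = 0 ∨ c = 1 := by
  have hq' : Nat.card h.KK = 2 ^ 1 := by rw [hq, pow_one]
  have h1 := (mem_K_iff h.KK hq').1 hc
  rw [pow_one] at h1
  have h2 : c * (c - 1) = 0 := by linear_combination h1
  rcases mul_eq_zero.1 h2 with h3 | h3
  · exact Or.inl h3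
  · exact Or.inr (sub_eq_zero.1 h3)

theorem zc_eq_of_two (hq : Nat.card h.KK = 2) : zc (S : Subgroup G) = zpowers (M.e (e₁ F)) := by
  refine le_antisymm ?_ (zpowers_le.2 h.e1)
  intro x hx
  obtain ⟨c, hc, rfl⟩ := h.mem_yv_iff.1 (h.zc_le_yv hx)
  rcases h.eq_of_mem_KK hq hc with rfl | rfl
  · rw [zero_smul, M.e_zero]; exact one_mem _
  · rw [one_smul]; exact mem_zpowers _

/-- (6.2) -/
theorem s3l_se (hq : Nat.card h.KK = 2) : S3L S I N (se M (fx F (2 * 1))) (M.e (e₁ F)) := by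
  have hKne := h.KK_ne_top_of_two hq
  obtain ⟨b, hb⟩ := card_eq h.isPGroup_sigS (K := h.KK) fun c hc => h.mem_KK_of_fix hc
  have hq' : Nat.card h.KK = 2 ^ 1 := by rw [hq, pow_one]
  have hc4 : Nat.card (fx F (2 * 1)) = 2 ^ (2 * 1) := card_KT h.KK hq' hb hKne
  have hzc := h.zc_eq_of_two hq
  refine s3l_of h.ens h.ti h.jp (se_le M _) (by rw [card_se, hc4]; norm_num) ?_ hzc ?_ ?_ ?_
  · exact ⟨1, (fx F _).one_mem, by rw [one_smul]⟩
  · intro s hs
    exact mem_norm_se (h.S_le_LL hs) (fx F _).one_mem (by rw [h.act_e1 hs, one_smul])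
  · intro hle
    -- an element of `F₄ - F₂`
    obtain ⟨w, hw, hwK⟩ : ∃ w ∈ fx F (2 * 1), w ∉ h.KK := by
      by_contra hcon
      push Not at hcon
      have h1 : Nat.card (fx F (2 * 1)) ≤ Nat.card h.KK :=
        Set.ncard_le_ncard (s := (fx F (2 * 1) : Set F)) (t := (h.KK : Set F)) hcon (Set.toFinite _)
      rw [hc4, hq] at h1
      norm_num at h1
    have hw0 : w ≠ 0 := fun h0 => hwK (h0 ▸ h.KK.zero_mem)
    obtain ⟨t, ht, hti⟩ := h.exists_ind (dg w hw0)
    have htL := h.nj_le ht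
    have hte : M.act t (e₁ F) = w • e₁ F := by
      rw [M.act_of_ind hti, ap_dg]
      apply ext2 <;> simp
    have h1 := hle (mem_norm_se htL hw hte)
    obtain ⟨c, hc, h2⟩ := (h.mem_M_iff htL).1 h1
    rw [hte] at h2
    exact hwK (smul_e₁_inj h2 ▸ hc)
  · intro g hg hgz
    have hgL := h.ens.normalizer_self_le hg
    refine mem_norm_se hgL (fx F _).one_mem ?_
    rw [one_smul]
    exact (fix_iff M hgL _).1 hgz

theorem s3l (hq : Nat.card h.KK = 2) : ∃ V z, S3L S I N V z := ⟨_, _, h.s3l_se hq⟩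

end NF

end Cfsg.Agent.OddCyclic.EmpN
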