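import Cfsg.Agent.OddCyclic.EmpN.Coord

/-!
# (Empty)-III, (6.1): `Y_V = C_V(N) = K e₁`, `K` a subfield

* `yv S N = V ∩ C_G(N)`; `NF.mem_M_of`: `u, u^g ∈ Y_V#` gives `g ∈ M`; `card_yv_sq`: `|Y_V|² ≤ |V|`;
* `NF.yv_line`: `Y_V ≤ F e₁`; `NF.KK`: the subfield; `mem_yv_iff`;
* `NF.mem_M_iff`: for `g ∈ L`: `g ∈ M ↔ g e₁ ∈ K e₁`;
* `NF.cent_of_N` (N').
-/

set_option autoImplicit false
set_option linter.unusedSectionVars false

namespace Cfsg.Agent.OddCyclic.EmpN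

open Subgroup Cfsg Cfsg.Agent.ZN Cfsg.Agent.ZN.ChoiceBase Cfsg.Agent.ZN.ChoiceSit
open Cfsg.Agent.MinSimple Cfsg.Agent.MinSimple.EmptyTI Cfsg.Agent.MinSimple.EmptySix
open Cfsg.Agent.MinSimple.EmptyE.Closed (LL CC cl mem_cl cl_eq cl_le vv_comm vv_sq vv_mul_self vv_inv
  isPGroup_vv vv_le_jj vv_le jj_le_centralizer_vv conj_mem_vv cj_vv)
open Cfsg.Agent.OddCyclic.EmpFrame
open Cfsg.Agent.OddCyclic.T1Defs (OddCyc)
open Cfsg.Agent.Omega.NatPair Cfsg.Agent.Lib.SL2Mat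

universe u

variable {G : Type u} [Group G]

/-- `Y_V = C_V(N)` -/
def yv (S N : Subgroup G) : Subgroup G := vv S ⊓ centralizer (N : Set G)

variable [Finite G] {S : Sylow 2 G} {I N : Subgroup G} {F : Type} [Field F] [Fintype F] [CharP F 2]

namespace NF

variable {M : NatMod F (vv (S : Subgroup G))} (h : NF S I N M)

include h

theorem vv_le_zj : vv (S : Subgroup G) ≤ zj (S : Subgroup G) := Cfsg.Agent.MinSimple.EmptySix.vv_le_zj _

/-- `u ∈ C(N)` gives `C_G(u) ≤ M` -/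
theorem cent_le_M {u : G} (hu : u ∈ vv (S : Subgroup G)) (hu1 : u ≠ 1) (hN : u ∈ centralizer (N : Set G)) :
    centralizer ({u} : Set G) ≤ normalizer (I : Set G) := by
  refine (h.jp.centralizer_le h.ens h.ti (h.vv_le_zj hu) hu1 ?_).1
  intro n hn
  rw [mem_centralizer_singleton_iff]
  exact mem_centralizer_iff.1 hN n hn

/-- `u ≠ 1` and `u ^ g` in `C_V(N)`: `g ∈ M` -/
theorem mem_M_of {u g : G} (hu1 : u ≠ 1) (hN : u ∈ centralizer (N : Set G))
    (hgu : g * u * g⁻¹ ∈ vv (S : Subgroup G)) (hgN : g * u * g⁻¹ ∈ centralizer (N : Set G)) :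
    g ∈ normalizer (I : Set G) := by
  have h1 : g * u * g⁻¹ ≠ 1 := fun e => hu1 (conj_eq_one_iff.1 e)
  have h2 := h.cent_le_M hgu h1 hgN
  have h3 : N ≤ cj g⁻¹ (normalizer (I : Set G)) := by
    intro n hn
    rw [mem_cj, inv_inv]
    apply h2
    rw [mem_centralizer_singleton_iff]
    have h4 := mem_centralizer_iff.1 hN n hn
    calc g * n * g⁻¹ * (g * u * g⁻¹) = g * (n * u) * g⁻¹ := by group
      _ = g * (u * n) * g⁻¹ := by rw [h4]
      _ = g * u * g⁻¹ * (g * n * g⁻¹) := by group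
  have h4 := h.jp.mem_of_le h.ens h.ti h3
  rw [← inv_inv g]
  exact inv_mem h4

theorem zc_le_yv : zc (S : Subgroup G) ≤ yv (S : Subgroup G) N := by
  refine le_inf (zc_le_vv _) ?_
  intro z hz
  rw [mem_centralizer_iff]
  intro n hn
  exact (mem_centralizer_iff.1 (h.jp.le_centralizer h.ens h.ti hn) z (h.ti.zc_le hz)).symm

theorem mem_yv_conj {g u : G} (hg : g ∈ normalizer (vv (S : Subgroup G) : Set G)) (hgM : g ∈ normalizer (I : Set G))
    (hu : u ∈ yv (S : Subgroup G) N) : g * u * g⁻¹ ∈ yv (S : Subgroup G) N := by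
  refine mem_inf.2 ⟨(mem_normalizer_iff.1 hg u).1 hu.1, ?_⟩
  rw [mem_centralizer_iff]
  intro n hn
  have h1 : g⁻¹ * n * g ∈ N := by
    have h2 : g⁻¹ ∈ normalizer (N : Set G) := by
      rw [h.jp.normalizer_eq h.ens h.ti]; exact inv_mem hgM
    have := (mem_normalizer_iff.1 h2 n).1 hn
    rwa [inv_inv] at this
  have h2 := mem_centralizer_iff.1 hu.2 _ h1
  calc n * (g * u * g⁻¹) = g * (g⁻¹ * n * g * u) * g⁻¹ := by group
    _ = g * (u * (g⁻¹ * n * g)) * g⁻¹ := by rw [h2]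
    _ = g * u * g⁻¹ * n := by group

theorem card_yv_sq : Nat.card (yv (S : Subgroup G) N) ^ 2 ≤ Fintype.card F ^ 2 := by
  obtain ⟨g, hgL, hgM⟩ := SetLike.not_le_iff_exists.1 (h.ens.not_LL_le h.ti)
  rw [← Nat.card_eq_fintype_card, ← M.card_V, pow_two, ← Nat.card_prod]
  refine Nat.card_le_card_of_injective
    (fun p : yv (S : Subgroup G) N × yv (S : Subgroup G) N =>
      (⟨p.1 * (g * p.2 * g⁻¹), mul_mem p.1.2.1 ((mem_normalizer_iff.1 hgL _).1 p.2.2.1)⟩ : vv (S : Subgroup G))) ?_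
  rintro ⟨a, b⟩ ⟨c, d⟩ he
  have h1 : (a : G) * (g * b * g⁻¹) = c * (g * d * g⁻¹) := congrArg Subtype.val he
  have h2 : g * ((b : G) * (d : G)⁻¹) * g⁻¹ = (a : G)⁻¹ * c := by
    have : (a : G)⁻¹ * c = (a : G)⁻¹ * (c * (g * d * g⁻¹)) * (g * d * g⁻¹)⁻¹ := by group
    rw [this, ← h1]
    group
  have h3 : (b : G) * (d : G)⁻¹ = 1 := by
    by_contra h0
    apply hgM
    have hm : (b : G) * (d : G)⁻¹ ∈ yv (S : Subgroup G) N := mul_mem b.2 (inv_mem d.2)
    have hm2 : (a : G)⁻¹ * c ∈ yv (S : Subgroup G) N := mul_mem (inv_mem a.2) c.2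
    exact h.mem_M_of h0 hm.2 (by rw [h2]; exact hm2.1) (by rw [h2]; exact hm2.2)
  rw [h3, mul_one, mul_inv_cancel] at h2
  have h4 : (a : G) = c := by
    have := congrArg (fun t => (a : G) * t) h2
    simpa using this
  rw [Prod.mk.injEq]
  exact ⟨Subtype.ext h4, Subtype.ext (mul_inv_eq_one.1 h3)⟩

/-- `Y_V ≤ F e₁` -/
theorem yv_line {x : Fin 2 → F} (hx : M.e x ∈ yv (S : Subgroup G) N) : x = x 0 • e₁ F := by
  by_contra hne
  have hx1 : x 1 ≠ 0 := fun h0 => hne (by conv_lhs => rw [vec_eq x, h0, zero_smul, add_zero])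
  have hsub : ∀ c : F, M.e (c • e₁ F) ∈ yv (S : Subgroup G) N := by
    intro c
    obtain ⟨s, hs, hu⟩ := h.exists_up (c * (x 1)⁻¹)
    have h1 := h.mem_yv_conj (h.S_le_LL hs) (h.ti.S_le hs) hx
    rw [hu x] at h1
    have h2 := mul_mem h1 (inv_mem hx)
    rw [← M.e_sub, ap_up] at h2
    have h3 : ![x 0 + c * (x 1)⁻¹ * x 1, x 1] - x = c • e₁ F := by
      apply ext2
      · simp [inv_mul_cancel_right₀ hx1]
      · simp
    rwa [h3] at h2
  have h1 : Nat.card (Option F) ≤ Nat.card (yv (S : Subgroup G) N) := by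
    refine Nat.card_le_card_of_injective
      (fun o => Option.elim o (⟨M.e x, hx⟩ : yv (S : Subgroup G) N) fun c => ⟨M.e (c • e₁ F), hsub c⟩) ?_
    rintro (_ | c) (_ | d) he
    · rfl
    · exfalso
      have := M.e_inj (congrArg Subtype.val he)
      apply hne
      rw [this]
      simp
    · exfalso
      have := M.e_inj (congrArg Subtype.val he)
      apply hne
      rw [← this]
      simp
    · exact congrArg some (smul_e₁_inj (M.e_inj (congrArg Subtype.val he)))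
  have h2 := h.card_yv_sq
  have h3 : Nat.card (yv (S : Subgroup G) N) ≤ Fintype.card F := (Nat.pow_le_pow_iff_left two_ne_zero).1 h2
  have h4 : Nat.card (Option F) = Fintype.card F + 1 := by
    rw [Finite.card_option, Nat.card_eq_fintype_card]
  omega

/-- an element inducing `diag(c, c⁻¹)` with `c e₁ ∈ Y_V` lies in `M` -/
theorem dg_mem_M {c : F} (hc : c ≠ 0) (hcN : M.e (c • e₁ F) ∈ centralizer (N : Set G)) {t : G}
    (ht : M.Ind t (dg c hc)) : t ∈ normalizer (I : Set G) := by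
  have h0 := (h.zc_le_yv h.e1).2
  have h1 : t * M.e (e₁ F) * t⁻¹ = M.e (c • e₁ F) := by
    rw [ht (e₁ F), ap_dg]
    congr 1
    apply ext2 <;> simp
  refine h.mem_M_of (u := M.e (e₁ F)) (fun h2 => e₁_ne (M.e_eq_one.1 h2)) h0 ?_ ?_
  · rw [h1]; exact M.e_mem _
  · rw [h1]; exact hcN

omit h in
theorem dg_smul {c : F} (hc : c ≠ 0) {t : G} (ht : M.Ind t (dg c hc)) (d : F) :
    t * M.e (d • e₁ F) * t⁻¹ = M.e ((c * d) • e₁ F) := by
  rw [ht, ap_dg]
  congr 1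
  apply ext2 <;> simp

omit h in
theorem dg_smul_inv {c : F} (hc : c ≠ 0) {t : G} (ht : M.Ind t (dg c hc)) (d : F) :
    t⁻¹ * M.e (d • e₁ F) * t⁻¹⁻¹ = M.e ((c⁻¹ * d) • e₁ F) := by
  have h1 := dg_smul hc ht (c⁻¹ * d)
  rw [mul_inv_cancel_left₀ hc] at h1
  rw [← h1]
  group

/-- the subfield `K` with `Y_V = K e₁` -/
def KK : Subfield F where
  carrier := {c | M.e (c • e₁ F) ∈ centralizer (N : Set G)}
  mul_mem' := by
    intro a b ha hb
    change M.e ((a * b) • e₁ F) ∈ centralizer (N : Set G)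
    by_cases ha0 : a = 0
    · rw [ha0, zero_mul, zero_smul, M.e_zero]; exact one_mem _
    · obtain ⟨t, ht, hti⟩ := h.exists_ind (dg a ha0)
      rw [← dg_smul ha0 hti b]
      exact (h.mem_yv_conj (h.nj_le ht) (h.dg_mem_M ha0 ha hti) (mem_inf.2 ⟨M.e_mem _, hb⟩)).2
  one_mem' := by
    change M.e ((1 : F) • e₁ F) ∈ centralizer (N : Set G)
    rw [one_smul]
    exact (h.zc_le_yv h.e1).2
  add_mem' := by
    intro a b ha hb
    change M.e ((a + b) • e₁ F) ∈ centralizer (N : Set G)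
    rw [add_smul, M.e_add]
    exact mul_mem ha hb
  zero_mem' := by
    change M.e ((0 : F) • e₁ F) ∈ centralizer (N : Set G)
    rw [zero_smul, M.e_zero]
    exact one_mem _
  neg_mem' := by
    intro a ha
    change M.e ((-a) • e₁ F) ∈ centralizer (N : Set G)
    rw [neg_smul, M.e_neg]
    exact inv_mem ha
  inv_mem' := by
    intro a ha
    change M.e (a⁻¹ • e₁ F) ∈ centralizer (N : Set G)
    by_cases ha0 : a = 0
    · rw [ha0, inv_zero, zero_smul, M.e_zero]; exact one_mem _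
    · obtain ⟨t, ht, hti⟩ := h.exists_ind (dg a ha0)
      have h1 := dg_smul_inv ha0 hti 1
      rw [mul_one, one_smul] at h1
      rw [← h1]
      exact (h.mem_yv_conj (inv_mem (h.nj_le ht)) (inv_mem (h.dg_mem_M ha0 ha hti)) (h.zc_le_yv h.e1)).2

theorem mem_KK {c : F} : c ∈ h.KK ↔ M.e (c • e₁ F) ∈ centralizer (N : Set G) := Iff.rfl

theorem mem_KK' {c : F} : c ∈ h.KK ↔ M.e (c • e₁ F) ∈ yv (S : Subgroup G) N :=
  ⟨fun hc => mem_inf.2 ⟨M.e_mem _, hc⟩, fun hc => hc.2⟩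

theorem mem_yv_iff {g : G} : g ∈ yv (S : Subgroup G) N ↔ ∃ c ∈ h.KK, M.e (c • e₁ F) = g := by
  constructor
  · intro hg
    obtain ⟨x, rfl⟩ := (M.mem_iff g).1 hg.1
    have hx := h.yv_line hg
    refine ⟨x 0, ?_, by rw [← hx]⟩
    rw [h.mem_KK, ← hx]
    exact hg.2
  · rintro ⟨c, hc, rfl⟩
    exact h.mem_KK'.1 hc

theorem card_yv : Nat.card (yv (S : Subgroup G) N) = Nat.card h.KK := by
  refine (Nat.card_congr (Equiv.ofBijective
    (fun c : h.KK => (⟨M.e ((c : F) • e₁ F), h.mem_KK'.1 c.2⟩ : yv (S : Subgroup G) N)) ⟨?_, ?_⟩)).symm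
  · intro c d he
    exact Subtype.ext (smul_e₁_inj (M.e_inj (congrArg Subtype.val he)))
  · rintro ⟨g, hg⟩
    obtain ⟨c, hc, rfl⟩ := h.mem_yv_iff.1 hg
    exact ⟨⟨c, hc⟩, rfl⟩

/-- for `g ∈ L`: `g ∈ M` iff `g e₁ ∈ K e₁` -/
theorem mem_M_iff {g : G} (hg : g ∈ normalizer (vv (S : Subgroup G) : Set G)) :
    g ∈ normalizer (I : Set G) ↔ ∃ c ∈ h.KK, M.act g (e₁ F) = c • e₁ F := by
  constructor
  · intro hgM
    have h1 := h.mem_yv_conj hg hgM (h.zc_le_yv h.e1)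
    rw [← M.e_act hg] at h1
    obtain ⟨c, hc, h2⟩ := h.mem_yv_iff.1 h1
    exact ⟨c, hc, (M.e_inj h2).symm⟩
  · rintro ⟨c, hc, h1⟩
    refine h.mem_M_of (u := M.e (e₁ F)) (fun h2 => e₁_ne (M.e_eq_one.1 h2)) (h.zc_le_yv h.e1).2 ?_ ?_
    · rw [← M.e_act hg]; exact M.e_mem _
    · rw [← M.e_act hg, h1]; exact hc

/-- `L ∩ M` acts on `K` through `sig` -/
theorem sig_mem_KK {g : G} (hg : g ∈ normalizer (vv (S : Subgroup G) : Set G)) (hgM : g ∈ normalizer (I : Set G))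
    {c : F} (hc : c ∈ h.KK) : sig M g c ∈ h.KK := by
  obtain ⟨d, hd, hgd⟩ := (h.mem_M_iff hg).1 hgM
  have hd0 : d ≠ 0 := by
    rintro rfl
    rw [zero_smul] at hgd
    exact M.act_ne_zero hg e₁_ne hgd
  have h1 := h.mem_yv_conj hg hgM (h.mem_KK'.1 hc)
  rw [← M.e_act hg, sig_spec hg, hgd, smul_smul] at h1
  have h2 := h.mem_KK'.2 h1
  have h3 := h.KK.mul_mem h2 (h.KK.inv_mem hd)
  rwa [mul_inv_cancel_right₀ hd0] at h3

/-- `F₀ ≤ K` -/
theorem mem_KK_of_fix {c : F} (hc : ∀ τ ∈ sigS M, τ c = c) : c ∈ h.KK :=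
  h.mem_KK'.2 (h.zc_le_yv (h.mem_zc_smul.2 hc))

/-- (N') -/
theorem cent_of_N {t : G} (ht : t ∈ N) (htL : t ∈ normalizer (vv (S : Subgroup G) : Set G)) (ho : Odd (orderOf t)) :
    t ∈ centralizer (vv (S : Subgroup G) : Set G) := by
  refine h.t_one htL ho fun z hz => ?_
  exact mem_centralizer_iff.1 (h.zc_le_yv hz).2 t ht

end NF

end Cfsg.Agent.OddCyclic.EmpN
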