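import Cfsg.Agent.OddCyclic.EmpN.Ker
import Cfsg.Agent.OddCyclic.EmpN.YV
import Cfsg.Agent.OddCyclic.EmpN.Fields

/-!
# (Empty)-III, (6.3): (C1), (C4)

* `mem_of_orderOf_M` (C1): `p ∣ |N|` odd: elements of order `p` of `M` lie in `N`;
* `NF.cFour` (C4): `p ∣ q - 1` gives `p ∤ |N|`.
-/

set_option autoImplicit false
set_option linter.unusedSectionVars false

namespace Cfsg.Agent.OddCyclic.EmpN

open Subgroup Cfsg Cfsg.Agent.ZN Cfsg.Agent.ZN.ChoiceBase Cfsg.Agent.ZN.ChoiceSit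
open Cfsg.Agent.MinSimple Cfsg.Agent.MinSimple.EmptyTI Cfsg.Agent.MinSimple.EmptySix
open Cfsg.Agent.MinSimple.EmptyE.Closed (LL CC cl mem_cl cl_eq cl_le vv_comm vv_sq vv_mul_self vv_inv
  isPGroup_vv vv_le_jj vv_le jj_le_centralizer_vv conj_mem_vv cj_vv)
open Cfsg.Agent.OddCyclic.EmpFrame
open Cfsg.Agent.OddCyclic.T1Defs (OddCyc)
open Cfsg.Agent.Omega.NatPair Cfsg.Agent.Lib.SL2Mat

universe u

variable {G : Type u} [Group G] [Finite G]

/-- (C1) -/
theorem mem_of_orderOf_M (hc : OddCyc G) {M N : Subgroup G} (hNM : N ≤ M) (hn : M ≤ normalizer (N : Set G)) {p : ℕ}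
    (hp : p.Prime) (hp2 : p ≠ 2) (hpN : p ∣ Nat.card N) {x : G} (hx : x ∈ M) (ho : orderOf x = p) : x ∈ N := by
  have h1 : (N.subgroupOf M).Normal := (normal_subgroupOf_iff_le_normalizer hNM).2 hn
  have h2 : p ∣ Nat.card (N.subgroupOf M) := by
    rwa [Nat.card_congr (subgroupOfEquivOfLe hNM).toEquiv]
  have h3 := CompBasic.mem_of_orderOf (CompBasic.oddCyc_subgroup hc M) hp hp2 h1 h2 (x := ⟨x, hx⟩)
    (by rw [Subgroup.orderOf_mk, ho])
  exact mem_subgroupOf.1 h3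

variable {S : Sylow 2 G} {I N : Subgroup G} {F : Type} [Field F] [Fintype F] [CharP F 2]

namespace NF

variable {M : NatMod F (vv (S : Subgroup G))} (h : NF S I N M)

include h

/-- (C4) -/
theorem cFour {p : ℕ} (hp : p.Prime) (hpq : p ∣ Nat.card h.KK - 1) : ¬ p ∣ Nat.card N := by
  intro hpN
  have hpf : Fact p.Prime := ⟨hp⟩
  have hp2 : p ≠ 2 := by
    rintro rfl
    obtain ⟨f, hf, hf1⟩ := card_K_pow h.KK
    rw [hf] at hpq
    have h1 : 2 ∣ 2 ^ f := dvd_pow_self 2 (by omega)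
    have h2 : 1 ≤ 2 ^ f := Nat.one_le_two_pow
    omega
  obtain ⟨u, hu⟩ := exists_prime_orderOf_dvd_card' (G := h.KKˣ) p (by rwa [Nat.card_units])
  obtain ⟨l, hl⟩ : ∃ l : F, l = ((u : h.KK) : F) := ⟨_, rfl⟩
  have hl0 : l ≠ 0 := by
    rw [hl]
    intro h0
    exact u.ne_zero (Subtype.ext h0)
  have hlK : l ∈ h.KK := by rw [hl]; exact (u : h.KK).2
  have hpow : ∀ m : ℕ, l ^ m = 1 ↔ p ∣ m := by
    intro m
    rw [← hu, orderOf_dvd_iff_pow_eq_one, hl]
    constructor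
    · intro h1
      exact Units.ext (Subtype.ext (by simpa using h1))
    · intro h1
      have := congrArg (fun w : h.KKˣ => ((w : h.KK) : F)) h1
      simpa using this
  have hdo : orderOf (dg l hl0) = p := by
    apply orderOf_eq_prime
    · rw [dg_pow, ← dg_one one_ne_zero]
      congr 1
      exact (hpow p).2 dvd_rfl
    · intro h6
      have h7 := congrArg (fun x => ent x 0 0) h6
      simp only [dg_00, ent_one_00] at h7
      have h8 := (hpow 1).1 (by rw [pow_one, h7])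
      exact hp.one_lt.ne' (Nat.dvd_one.1 h8)
  have hcent := not_dvd_cent M h.ens.hyp.cyc h.four hp hp2 (hdo ▸ orderOf_dvd_natCard _)
  obtain ⟨n, hn⟩ := M.lift (dg l hl0)
  have hnI : M.Ind n (dg l hl0) := hn
  have hnM := h.dg_mem_M hl0 (h.mem_KK.1 hlK) hnI
  obtain ⟨k, m, hm, hkm⟩ := Nat.exists_eq_pow_mul_and_not_dvd (orderOf_pos n).ne' p hp.ne_one
  have hnm : M.Ind (n ^ m) (dg l hl0 ^ m) := ind_pow M hnI m
  have hord : orderOf (n ^ m) = p ^ k := by
    have hm0 : m ≠ 0 := by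
      rintro rfl
      exact hm (dvd_zero p)
    rw [orderOf_pow' n hm0, hkm, Nat.gcd_mul_left_left, Nat.mul_div_cancel _ (Nat.pos_of_ne_zero hm0)]
  -- `(n ^ m) ^ p` centralises `V`
  have h1 : (n ^ m) ^ p ∈ centralizer (vv (S : Subgroup G) : Set G) := by
    have h2 := ind_pow M hnm p
    rw [← pow_mul (dg l hl0), mul_comm m p, pow_mul, ← hdo, pow_orderOf_eq_one, one_pow, hdo] at h2
    exact cent_of_ind M h2
  have h2 : (n ^ m) ^ p = 1 := by
    by_contra hne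
    apply hcent
    have h3 : orderOf ((n ^ m) ^ p) ∣ p ^ k := hord ▸ orderOf_pow_dvd p
    obtain ⟨j, -, hj⟩ := (Nat.dvd_prime_pow hp).1 h3
    have hj0 : j ≠ 0 := by
      rintro rfl
      rw [pow_zero, orderOf_eq_one_iff] at hj
      exact hne hj
    have h4 := orderOf_dvd_natCard (⟨(n ^ m) ^ p, h1⟩ : centralizer (vv (S : Subgroup G) : Set G))
    rw [Subgroup.orderOf_mk, hj] at h4
    exact (dvd_pow_self p hj0).trans h4
  have hact : n ^ m * M.e (e₁ F) * (n ^ m)⁻¹ = M.e (l ^ m • e₁ F) := by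
    rw [hnm, dg_pow, ap_dg]
    congr 1
    apply ext2 <;> simp
  have hne : l ^ m ≠ 1 := fun h3 => hm ((hpow m).1 h3)
  have hcm : ¬ n ^ m * M.e (e₁ F) = M.e (e₁ F) * n ^ m := by
    intro h3
    rw [h3, mul_inv_cancel_right] at hact
    have h4 := M.e_inj hact
    apply hne
    have h5 : (1 : F) • e₁ F = l ^ m • e₁ F := by rw [one_smul]; exact h4
    exact (smul_e₁_inj h5).symm
  have hne1 : n ^ m ≠ 1 := by
    intro h3
    apply hcm
    rw [h3, one_mul, mul_one]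
  have hop : orderOf (n ^ m) = p := orderOf_eq_prime h2 hne1
  have hmem := mem_of_orderOf_M h.ens.hyp.cyc h.jp.pc.le h.jp.pc.norm hp hp2 hpN (pow_mem hnM m) hop
  exact hcm (mem_centralizer_iff.1 (h.zc_le_yv h.e1).2 _ hmem)

end NF

end Cfsg.Agent.OddCyclic.EmpN
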