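import Cfsg.Agent.OddCyclic.EmpN.LineAB

/-!
# (Empty)-III, (6.4) (β): `K ≠ F`, the line `Fl = K₂ e₁`
-/

set_option autoImplicit false
set_option linter.unusedSectionVars false

namespace Cfsg.Agent.OddCyclic.EmpN

open Subgroup Cfsg Cfsg.Agent.ZN Cfsg.Agent.ZN.ChoiceBase Cfsg.Agent.ZN.ChoiceSit
open Cfsg.Agent.MinSimple Cfsg.Agent.MinSimple.EmptyTI Cfsg.Agent.MinSimple.EmptySix
open Cfsg.Agent.MinSimple.EmptyE.Closed (LL CC cl mem_cl cl_eq cl_le vv_comm vv_sq vv_mul_self vv_inv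
  isPGroup_vv vv_le_jj vv_le jj_le_centralizer_vv conj_mem_vv cj_vv)
open Cfsg.Agent.OddCyclic.EmpFrame
open Cfsg.Agent.OddCyclic.T1Defs (OddCyc)
open Cfsg.Agent.Omega.NatPair Cfsg.Agent.Lib.SL2Mat

universe u

variable {G : Type u} [Group G] [Finite G] {S : Sylow 2 G} {I N : Subgroup G}
  {F : Type} [Field F] [Fintype F] [CharP F 2] {M : NatMod F (vv (S : Subgroup G))}

namespace NF

variable (h : NF S I N M)

include h

theorem yyB {n : ℕ} (hle : h.KK ≤ fx F n) {g : G} :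
    g ∈ yy N (se M (fx F n)) ↔ ∃ c ∈ h.KK, M.e (c • e₁ F) = g := by
  constructor
  · rintro ⟨⟨c, hc, rfl⟩, hcN⟩
    exact ⟨c, hcN, rfl⟩
  · rintro ⟨c, hc, rfl⟩
    exact ⟨⟨c, hle hc, rfl⟩, hc⟩

theorem exists_not_mem {f : ℕ} (hf : Nat.card h.KK = 2 ^ f) (hK : h.KK ≠ ⊤) : ∃ w ∈ fx F (2 * f), w ∉ h.KK := by
  obtain ⟨b, hb⟩ := card_eq h.isPGroup_sigS (K := h.KK) fun c hc => h.mem_KK_of_fix hc
  have hc4 : Nat.card (fx F (2 * f)) = 2 ^ (2 * f) := card_KT h.KK hf hb hK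
  by_contra hcon
  push Not at hcon
  have h1 : Nat.card (fx F (2 * f)) ≤ Nat.card h.KK :=
    Set.ncard_le_ncard (s := (fx F (2 * f) : Set F)) (t := (h.KK : Set F)) hcon (Set.toFinite _)
  have hf1 : 1 ≤ f := by
    rcases Nat.eq_zero_or_pos f with rfl | h
    · have := two_le_card h.KK
      rw [hf] at this
      norm_num at this
    · exact h
  rw [hc4, hf] at h1
  have h2 : 2 ^ f < 2 ^ (2 * f) := Nat.pow_lt_pow_right (by norm_num) (by omega)
  omega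

theorem lnB_base {f : ℕ} (hf : Nat.card h.KK = 2 ^ f) (hK : h.KK ≠ ⊤) :
    Ln S I N (se M (fx F (2 * f))) (M.e (e₁ F)) where
  ens := h.ens
  ti := h.ti
  jp := h.jp
  le := se_le M _
  z_mem := ⟨1, (fx F _).one_mem, by rw [one_smul]⟩
  z_zc := h.e1
  z_ne := fun h2 => e₁_ne (M.e_eq_one.1 h2)
  norm := fun s hs => mem_norm_se (h.S_le_LL hs) (fx F _).one_mem (by rw [h.act_e1 hs, one_smul])
  tr := by
    rintro v ⟨c, hc, rfl⟩ hv1
    have hc0 : c ≠ 0 := by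
      rintro rfl
      exact hv1 (by rw [zero_smul, M.e_zero])
    obtain ⟨n, hn, hi⟩ := h.exists_ind (dg c hc0)
    have hne : M.act n (e₁ F) = c • e₁ F := by
      rw [M.act_of_ind hi, ap_dg]
      apply ext2 <;> simp
    exact ⟨n, ⟨hn, mem_norm_se (h.nj_le hn) hc hne⟩, by rw [← M.e_act (h.nj_le hn), hne]⟩
  not_le := by
    intro hle
    obtain ⟨w, hw, hwK⟩ := h.exists_not_mem hf hK
    exact hwK (hle ⟨w, hw, rfl⟩)

/-- elements of `S` trivial on `Y` -/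
theorem se_act {s : G} (hs : s ∈ (S : Subgroup G)) (c : F) :
    s * M.e (c • e₁ F) * s⁻¹ = M.e (sig M s c • e₁ F) := by
  rw [← M.e_act (h.S_le_LL hs), h.act_S hs]

theorem sig_eq_on {t : G} (ht : t ∈ (S : Subgroup G)) {c : F} (hc : t * M.e (c • e₁ F) = M.e (c • e₁ F) * t) :
    sig M t c = c := by
  have h1 := h.se_act ht c
  rw [hc, mul_inv_cancel_right] at h1
  exact (smul_e₁_inj (M.e_inj h1)).symm

/-- (β) -/
theorem lnB {f : ℕ} (hf : Nat.card h.KK = 2 ^ f) (hf2 : 2 ≤ f) (hK : h.KK ≠ ⊤) :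
    LnK S I N (se M (fx F (2 * f))) (M.e (e₁ F)) f f := by
  have hb := h.lnB_base hf hK
  have hKf := K_le_fx h.KK hf
  obtain ⟨b, hbc⟩ := card_eq h.isPGroup_sigS (K := h.KK) fun c hc => h.mem_KK_of_fix hc
  have hcF : Nat.card (fx F (2 * f)) = 2 ^ (2 * f) := card_KT h.KK hf hbc hK
  have hyy : yy N (se M (fx F (2 * f))) = yv (S : Subgroup G) N := by
    ext g
    rw [h.yyB hKf, h.mem_yv_iff]
  have hσ : ∀ t ∈ tt (S : Subgroup G) I (se M (fx F (2 * f))), ∀ c ∈ h.KK, sig M t c = c := fun t ht c hc =>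
    h.sig_eq_on (hb.tt_le_S ht) (hb.tt_cent ht ((h.yyB hKf).2 ⟨c, hc, rfl⟩))
  refine { hb with
    f_two := hf2
    k_one := by omega
    card_yy := by rw [hyy, h.card_yv, hf]
    card_F := by rw [card_se, hcF]
    lp3 := ?_
    fixw := ?_
    idx := ?_ }
  · rintro t ht v ⟨c, hc, rfl⟩
    rw [h.se_act (hb.tt_le_S ht), ← M.e_sub, ← sub_smul, h.yyB hKf]
    exact ⟨_, add_mem_K hf (hσ t ht) hc, rfl⟩
  · rintro t ht htc v ⟨c, hc, rfl⟩ hcomm
    rw [h.yyB hKf]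
    refine ⟨c, ?_, rfl⟩
    by_contra hcK
    apply htc
    rw [mem_centralizer_iff]
    rintro _ ⟨d, hd, rfl⟩
    have h1 := fix_all_of hf (hσ t ht) hc hcK (h.sig_eq_on (hb.tt_le_S ht) hcomm) d hd
    have h2 := h.se_act (hb.tt_le_S ht) d
    rw [h1] at h2
    exact (mul_inv_eq_iff_eq_mul.1 h2).symm
  · obtain ⟨w, hw, hwK⟩ := h.exists_not_mem hf hK
    have h2 : (centralizer (se M (fx F (2 * f)) : Set G)).relIndex (tt (S : Subgroup G) I (se M (fx F (2 * f)))) ≤ 2 := by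
      refine (relIndex_le_ncard (v := M.e (w • e₁ F))
        (Ω := {M.e (w • e₁ F), M.e (w ^ 2 ^ f • e₁ F)}) ?_ ?_).trans ?_
      · intro t ht hcomm
        rw [mem_centralizer_iff]
        rintro _ ⟨d, hd, rfl⟩
        have h1 := fix_all_of hf (hσ t ht) hw hwK (h.sig_eq_on (hb.tt_le_S ht) hcomm) d hd
        have h2 := h.se_act (hb.tt_le_S ht) d
        rw [h1] at h2
        exact (mul_inv_eq_iff_eq_mul.1 h2).symm
      · intro t ht
        rw [h.se_act (hb.tt_le_S ht)]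
        rcases fix_or hf (hσ t ht) hw with h1 | h1
        · left; rw [h1]
        · right; rw [h1]; rfl
      · refine (Set.ncard_insert_le _ _).trans ?_
        rw [Set.ncard_singleton]
    exact Nat.pow_le_pow_left h2 f

/-- (β), `f` odd: `[Fl, S] ≤ Y` -/
theorem fsB {f : ℕ} (hf : Nat.card h.KK = 2 ^ f) (hodd : Odd f) :
    ∀ s ∈ (S : Subgroup G), ∀ v ∈ se M (fx F (2 * f)), s * v * s⁻¹ * v⁻¹ ∈ yy N (se M (fx F (2 * f))) := by
  rintro s hs v ⟨c, hc, rfl⟩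
  have hσ : ∀ d ∈ h.KK, sig M s d = d := fun d hd =>
    fix_of_odd h.isPGroup_sigS (fun c hc => h.mem_KK_of_fix hc) hodd hf _ (h.mem_sigS.2 ⟨s, hs, rfl⟩) d hd
  rw [h.se_act hs, ← M.e_sub, ← sub_smul, h.yyB (K_le_fx h.KK hf)]
  exact ⟨_, add_mem_K hf hσ hc, rfl⟩

end NF

end Cfsg.Agent.OddCyclic.EmpN
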