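import Cfsg.Agent.OddCyclic.EmpN.LnA
import Cfsg.Agent.OddCyclic.EmpN.LnB
import Cfsg.Agent.OddCyclic.EmpN.CFour
import Cfsg.Agent.OddCyclic.Emp3.Dispatch
import Cfsg.Agent.OddCyclic.Emp3.Star
import Cfsg.Agent.OddCyclic.EmpBKill
import Cfsg.Agent.OddCyclic.EmpG.Sec1

/-!
# (Empty)-III, (6.5)-(6.9): no line with `|Fl| = |Y|²` and (EV)
-/

set_option autoImplicit false
set_option linter.unusedSectionVars false

namespace Cfsg.Agent.OddCyclic.EmpN

open Subgroup Cfsg Cfsg.Agent.ZN Cfsg.Agent.ZN.ChoiceBase Cfsg.Agent.ZN.ChoiceSit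
open Cfsg.Agent.MinSimple Cfsg.Agent.MinSimple.EmptyTI Cfsg.Agent.MinSimple.EmptySix
open Cfsg.Agent.MinSimple.EmptyE.Closed (LL CC cl mem_cl cl_eq cl_le vv_comm vv_sq vv_mul_self vv_inv
  isPGroup_vv vv_le_jj vv_le jj_le_centralizer_vv conj_mem_vv cj_vv)
open Cfsg.Agent.OddCyclic.EmpFrame
open Cfsg.Agent.OddCyclic.T1Defs (OddCyc)

universe u

variable {G : Type u} [Group G] [Finite G] {S : Sylow 2 G} {I N Fl : Subgroup G} {z : G}

/-- (EV) -/
def Ev (S I N Fl : Subgroup G) : Prop :=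
  ∀ y : G, cj y Fl ≤ tt S I Fl → Fl ≤ cj y (tt S I Fl) →
    (∀ x ∈ Fl, ∀ w ∈ cj y Fl, x * w * x⁻¹ * w⁻¹ ∈ yy N Fl ∧ x * w * x⁻¹ * w⁻¹ ∈ cj y (yy N Fl)) →
    ∀ x ∈ Fl, ∀ w ∈ cj y Fl, x * w = w * x

namespace LnK

variable {f k : ℕ} (h : LnK S I N Fl z f k)

include h

theorem sec1 : EmpG.Sec1.Ln S I N Fl (pp (S : Subgroup G) Fl) where
  h := h.ens
  hI := h.ti
  hN := h.jp
  FV := h.le
  ne := fun h0 => h.z_ne (by have h1 := h.z_mem; rw [h0] at h1; exact Subgroup.mem_bot.1 h1)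
  SP := h.S_le_pp
  PF := pp_le_nF _ _
  nM := h.not_le_M
  o2P := h.o2_eq

/-- (EV) for `k ≥ 2` -/
theorem ev (hk : 2 ≤ k) : Ev (S : Subgroup G) I N Fl := by
  intro y h1 h2 _ x hx w hw
  exact mem_centralizer_iff.1 (h.ev_of_two hk h1 h2 hw) x hx

theorem false_of (hc : OddCyc G) (hs : CompStart.SecZero G) (hE : Ev (S : Subgroup G) I N Fl)
    (hN' : ∀ t ∈ N, Odd (orderOf t) → t ∈ normalizer (jj (S : Subgroup G) : Set G) → t ∈ centralizer (Fl : Set G))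
    (hc4 : ∀ p : ℕ, p.Prime → p ∣ 2 ^ f - 1 → ¬ p ∣ Nat.card N)
    (hFS : Odd f → ∀ s ∈ (S : Subgroup G), ∀ v ∈ Fl, s * v * s⁻¹ * v⁻¹ ∈ yy N Fl) : False := by
  have L := h.sec1
  have hlp : ∀ x ∈ Fl, ∀ t ∈ o2 (EmpG.Sec1.bb I (pp (S : Subgroup G) Fl)), t * x * t⁻¹ * x⁻¹ ∈ EmpG.Sec1.yy N Fl :=
    fun x hx t ht => h.lp3 t ht x hx
  obtain ⟨A, a, a', c, b⟩ := Emp3.Star.exists_bx0 (k := k) (f := f) (L.lf hlp) S L.SB h.k_one
    (fun E hE _ => h.kk hE)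
    (by
      intro w hw hx
      obtain ⟨x, hx, hne⟩ := hx
      have h1 := h.card_div (E := zpowers w) (zpowers_le.2 hw) (fun hle => hne
        (mem_centralizer_iff.1 (hle (mem_zpowers w)) x hx).symm)
      have h2 : centralizer ((zpowers w : Subgroup G) : Set G) = centralizer ({w} : Set G) := by
        rw [zpowers_eq_closure, centralizer_closure]
      rw [h2] at h1
      exact h1.ge)
    hE h.f_two
    (by
      change Nat.card Fl = 2 ^ f * Nat.card (yy N Fl)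
      rw [h.card_F, h.card_yy, two_mul, pow_add])
    (by
      intro v hv hn
      by_contra hv1
      obtain ⟨n, hnN, hne⟩ := L.exists_comm hv hv1
      apply hne
      have h1 := inv_mem (hn n hnN)
      have e : (n * v * n⁻¹ * v⁻¹)⁻¹ = v * n * v⁻¹ * n⁻¹ := by group
      rwa [e] at h1)
    hN'
  have hcd : Nat.card Fl = Nat.card (EmpG.Sec1.yy N Fl) ^ 2 := by
    change Nat.card Fl = Nat.card (yy N Fl) ^ 2
    rw [h.card_F, h.card_yy, ← pow_mul, mul_comm]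
  have ex : Emp3.Dispatch.Ex S N (yy N Fl) Fl f := by
    refine ⟨fun p hp hd hd' => hc4 p hp hd (hd'.trans (relIndex_dvd_card _ _)), hFS, ?_⟩
    intro x hx hp ho v hv hv1 hxv
    rw [mem_centralizer_iff]
    intro u hu
    refine (L.comm_F_of hcd ?_ hx hp ?_ rfl hv hv1 hxv u hu).symm
    · intro w hw
      right
      obtain ⟨g, hg, hgw⟩ := h.cov hw
      exact ⟨g, hg, mem_cj.2 hgw⟩
    · intro h2
      rw [h2] at ho
      exact (by decide : ¬ Odd 2) ho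
  have hM : normalizer (I : Set G) ≠ ⊤ := fun hM => h.not_le_M (by rw [hM]; exact le_top)
  exact Emp3.Dispatch.false_of hc hs (EmpB.slKill G) (EmpB.szKill G) hM h.jp.pc h.ti.S_le (fun K hK hn => EmpG.Pcs.pc_min hc h.jp.pc hK hn) b ex

end LnK

end Cfsg.Agent.OddCyclic.EmpN
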