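import Cfsg.Agent.OddCyclic.EmpN.YV
import Cfsg.Agent.OddCyclic.A4ELayer
import Cfsg.Agent.MinSimple.LemXPerm

/-!
# (Empty)-III, (6.4): lines

`Ln S I N Fl z`: `z ∈ Z#`, `Fl ≤ V` normalised by `S`, `N_G(J) ∩ N_G(Fl)` transitive on `Fl#`, `[Fl, N] ≠ 1`.

* `pp S Fl = N(J) ∩ N(Fl) ∩ N(C_S(Fl))` (the group `P`), `Ln.o2_eq : O₂(P) = C_S(Fl)`, `Ln.not_le_M`, `Ln.tr'`;
* `bb = P ∩ M`, `tt = O₂(B)`, `yy = C_Fl(N)`; `Ln.tt_cent : [T, Y] = 1`.
-/

set_option autoImplicit false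
set_option linter.unusedSectionVars false

namespace Cfsg.Agent.OddCyclic.EmpN

open Subgroup Cfsg Cfsg.Agent.ZN Cfsg.Agent.ZN.ChoiceBase Cfsg.Agent.ZN.ChoiceSit
open Cfsg.Agent.MinSimple Cfsg.Agent.MinSimple.EmptyTI Cfsg.Agent.MinSimple.EmptySix
open Cfsg.Agent.MinSimple.EmptyE.Closed (LL CC cl mem_cl cl_eq cl_le vv_comm vv_sq vv_mul_self vv_inv
  isPGroup_vv vv_le_jj vv_le jj_le_centralizer_vv conj_mem_vv cj_vv)
open Cfsg.Agent.OddCyclic.EmpFrame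
open Cfsg.Agent.OddCyclic.T1Defs (OddCyc)

universe u

variable {G : Type u} [Group G]

/-- `P₀ = N_G(J) ∩ N_G(Fl)` -/
def pz (S Fl : Subgroup G) : Subgroup G := normalizer (jj S : Set G) ⊓ normalizer (Fl : Set G)

/-- `P = N_{P₀}(C_S(Fl))` -/
def pp (S Fl : Subgroup G) : Subgroup G := pz S Fl ⊓ normalizer ((S ⊓ centralizer (Fl : Set G) : Subgroup G) : Set G)

/-- `B = P ∩ M` -/
def bb (S I Fl : Subgroup G) : Subgroup G := pp S Fl ⊓ normalizer (I : Set G)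

/-- `T = O₂(B)` -/
def tt (S I Fl : Subgroup G) : Subgroup G := o2 (bb S I Fl)

/-- `Y = C_Fl(N)` -/
def yy (N Fl : Subgroup G) : Subgroup G := Fl ⊓ centralizer (N : Set G)

theorem pp_le_nj (S Fl : Subgroup G) : pp S Fl ≤ normalizer (jj S : Set G) := inf_le_left.trans inf_le_left
theorem pp_le_nF (S Fl : Subgroup G) : pp S Fl ≤ normalizer (Fl : Set G) := inf_le_left.trans inf_le_right
theorem pp_le_nC (S Fl : Subgroup G) :
    pp S Fl ≤ normalizer ((S ⊓ centralizer (Fl : Set G) : Subgroup G) : Set G) := inf_le_right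
theorem bb_le_pp (S I Fl : Subgroup G) : bb S I Fl ≤ pp S Fl := inf_le_left
theorem bb_le_M (S I Fl : Subgroup G) : bb S I Fl ≤ normalizer (I : Set G) := inf_le_right
theorem yy_le (N Fl : Subgroup G) : yy N Fl ≤ Fl := inf_le_left
theorem yy_le_cent (N Fl : Subgroup G) : yy N Fl ≤ centralizer (N : Set G) := inf_le_right

variable [Finite G] {S : Sylow 2 G} {I N Fl : Subgroup G} {z : G}

/-- a line -/
structure Ln (S : Sylow 2 G) (I N Fl : Subgroup G) (z : G) : Prop where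
  ens : ENS S
  ti : TIData (S : Subgroup G) I
  jp : JP (S : Subgroup G) I N
  le : Fl ≤ vv (S : Subgroup G)
  z_mem : z ∈ Fl
  z_zc : z ∈ zc (S : Subgroup G)
  z_ne : z ≠ 1
  norm : (S : Subgroup G) ≤ normalizer (Fl : Set G)
  tr : ∀ v ∈ Fl, v ≠ 1 → ∃ g ∈ pz (S : Subgroup G) Fl, g * z * g⁻¹ = v
  not_le : ¬ Fl ≤ centralizer (N : Set G)

namespace Ln

variable (h : Ln S I N Fl z)

include h

theorem nj_le_LL : normalizer (jj (S : Subgroup G) : Set G) ≤ normalizer (vv (S : Subgroup G) : Set G) :=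
  h.ens.normalizer_le_LL

theorem S_le_nj : (S : Subgroup G) ≤ normalizer (jj (S : Subgroup G) : Set G) := h.ens.le_normalizer_jj

theorem le_zj : Fl ≤ zj (S : Subgroup G) := h.le.trans (EmptySix.vv_le_zj _)

theorem le_S : Fl ≤ (S : Subgroup G) := h.le.trans vv_le

theorem comm {a b : G} (ha : a ∈ Fl) (hb : b ∈ Fl) : a * b = b * a := vv_comm (h.le ha) (h.le hb)

theorem sq {a : G} (ha : a ∈ Fl) : a * a = 1 := vv_mul_self (h.le ha)

theorem S_le_pz : (S : Subgroup G) ≤ pz (S : Subgroup G) Fl := le_inf h.S_le_nj h.norm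

theorem S_le_pp : (S : Subgroup G) ≤ pp (S : Subgroup G) Fl := by
  refine le_inf h.S_le_pz ?_
  have h1 : (S : Subgroup G) ≤ normalizer ((centralizer (Fl : Set G) : Subgroup G) : Set G) :=
    h.norm.trans (DBlkReduce.nc _)
  intro s hs
  rw [mem_normalizer_iff_cj, cj_inf, mem_normalizer_iff_cj.1 (h1 hs), mem_normalizer_iff_cj.1 (Subgroup.le_normalizer hs)]

theorem S_le_bb : (S : Subgroup G) ≤ bb (S : Subgroup G) I Fl := le_inf h.S_le_pp h.ti.S_le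

theorem not_dvd_bb : ¬ 2 ∣ (S : Subgroup G).relIndex (bb (S : Subgroup G) I Fl) := Basic.not_dvd_relIndex S h.S_le_bb

/-- Frattini: `P₀ = P C_{P₀}(Fl)` -/
theorem exists_mul {g : G} (hg : g ∈ pz (S : Subgroup G) Fl) :
    ∃ p ∈ pp (S : Subgroup G) Fl, ∃ c ∈ centralizer (Fl : Set G), g = p * c := by
  have h1 : pz (S : Subgroup G) Fl ≤ normalizer ((centralizer (Fl : Set G) : Subgroup G) : Set G) :=
    inf_le_right.trans (DBlkReduce.nc _)
  obtain ⟨l, hl, n, hn, rfl⟩ := LemXPerm.exists_frattini h.S_le_pz S.isPGroup' (Basic.not_dvd_relIndex S h.S_le_pz)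
    h1 hg
  refine ⟨n, hn, n⁻¹ * l * n, ?_, by group⟩
  have h2 := (mem_normalizer_iff.1 (inv_mem (h1 hn.1)) l).1 hl
  rwa [inv_inv] at h2

theorem exists_pp {g : G} (hg : g ∈ pz (S : Subgroup G) Fl) :
    ∃ p ∈ pp (S : Subgroup G) Fl, p⁻¹ * g ∈ centralizer (Fl : Set G) := by
  obtain ⟨p, hp, c, hc, rfl⟩ := h.exists_mul hg
  exact ⟨p, hp, by rwa [inv_mul_cancel_left]⟩

/-- `P` is transitive on `Fl#` -/
theorem tr' {v : G} (hv : v ∈ Fl) (hv1 : v ≠ 1) : ∃ g ∈ pp (S : Subgroup G) Fl, g * z * g⁻¹ = v := by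
  obtain ⟨g, hg, hgv⟩ := h.tr v hv hv1
  obtain ⟨p, hp, c, hc, rfl⟩ := h.exists_mul hg
  refine ⟨p, hp, ?_⟩
  rw [← hgv]
  have h1 : c * z = z * c := (mem_centralizer_iff.1 hc z h.z_mem).symm
  calc p * z * p⁻¹ = p * (z * c) * c⁻¹ * p⁻¹ := by group
    _ = p * c * z * (p * c)⁻¹ := by rw [← h1]; group

theorem z_S {s : G} (hs : s ∈ (S : Subgroup G)) : s * z = z * s := (ChoiceBase.mem_zc.1 h.z_zc).2.2 s hs

/-- a normal subgroup of `P` inside `S` centralises `Fl` -/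
theorem cent_of_normal {T : Subgroup G} (hT : T ≤ (S : Subgroup G))
    (hn : pp (S : Subgroup G) Fl ≤ normalizer (T : Set G)) : T ≤ centralizer (Fl : Set G) := by
  intro t ht
  rw [mem_centralizer_iff]
  intro v hv
  by_cases hv1 : v = 1
  · rw [hv1, one_mul, mul_one]
  · obtain ⟨p, hp, rfl⟩ := h.tr' hv hv1
    have h1 : p⁻¹ * t * p ∈ T := by
      have := (mem_normalizer_iff.1 (inv_mem (hn hp)) t).1 ht
      rwa [inv_inv] at this
    have h2 := h.z_S (hT h1)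
    calc p * z * p⁻¹ * t = p * (z * (p⁻¹ * t * p)) * p⁻¹ := by group
      _ = p * (p⁻¹ * t * p * z) * p⁻¹ := by rw [h2]
      _ = t * (p * z * p⁻¹) := by group

/-- `O₂(P) = C_S(Fl)` -/
theorem o2_eq : o2 (pp (S : Subgroup G) Fl) = (S : Subgroup G) ⊓ centralizer (Fl : Set G) := by
  apply le_antisymm
  · have h1 : o2 (pp (S : Subgroup G) Fl) ≤ (S : Subgroup G) := o2_le_syl (syl_of_le h.S_le_pp)
    exact le_inf h1 (h.cent_of_normal h1 (Block.le_normalizer_o2 _))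
  · exact ChoiceSit.le_o2 (S.isPGroup'.to_le inf_le_left) (inf_le_left.trans h.S_le_pp) (pp_le_nC _ _)

theorem z_cent : z ∈ centralizer (N : Set G) := by
  rw [mem_centralizer_iff]
  intro n hn
  exact (mem_centralizer_iff.1 (h.jp.le_centralizer h.ens h.ti hn) z (h.ti.zc_le h.z_zc)).symm

theorem z_yy : z ∈ yy N Fl := ⟨h.z_mem, h.z_cent⟩

/-- (F4'): `u ∈ Y#` gives `C_G(u) ≤ M` -/
theorem cent_le_M {u : G} (hu : u ∈ yy N Fl) (hu1 : u ≠ 1) : centralizer ({u} : Set G) ≤ normalizer (I : Set G) := by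
  refine (h.jp.centralizer_le h.ens h.ti (h.le_zj hu.1) hu1 ?_).1
  intro n hn
  rw [mem_centralizer_singleton_iff]
  exact mem_centralizer_iff.1 hu.2 n hn

/-- `u, u ^ g ∈ Y#`: `g ∈ M` -/
theorem mem_M_of {u g : G} (hu : u ∈ yy N Fl) (hu1 : u ≠ 1) (hg : g * u * g⁻¹ ∈ yy N Fl) :
    g ∈ normalizer (I : Set G) := by
  have h1 : g * u * g⁻¹ ≠ 1 := fun e => hu1 (conj_eq_one_iff.1 e)
  have h2 := h.cent_le_M hg h1
  have h3 : N ≤ cj g⁻¹ (normalizer (I : Set G)) := by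
    intro n hn
    rw [mem_cj, inv_inv]
    apply h2
    rw [mem_centralizer_singleton_iff]
    have h4 := mem_centralizer_iff.1 hu.2 n hn
    calc g * n * g⁻¹ * (g * u * g⁻¹) = g * (n * u) * g⁻¹ := by group
      _ = g * (u * n) * g⁻¹ := by rw [h4]
      _ = g * u * g⁻¹ * (g * n * g⁻¹) := by group
  have h4 := h.jp.mem_of_le h.ens h.ti h3
  rw [← inv_inv g]
  exact inv_mem h4

/-- `M ∩ N(Fl)` normalises `Y` -/
theorem yy_conj {g u : G} (hg : g ∈ normalizer (Fl : Set G)) (hgM : g ∈ normalizer (I : Set G)) (hu : u ∈ yy N Fl) :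
    g * u * g⁻¹ ∈ yy N Fl := by
  refine mem_inf.2 ⟨(mem_normalizer_iff.1 hg u).1 hu.1, ?_⟩
  rw [mem_centralizer_iff]
  intro n hn
  have h1 : g⁻¹ * n * g ∈ N := by
    have h2 : g⁻¹ ∈ normalizer (N : Set G) := by
      rw [h.jp.normalizer_eq h.ens h.ti]; exact inv_mem hgM
    have := (mem_normalizer_iff.1 h2 n).1 hn
    rwa [inv_inv] at this
  have h2 := mem_centralizer_iff.1 hu.2 _ h1
  calc n * (g * u * g⁻¹) = g * (g⁻¹ * n * g * u) * g⁻¹ := by group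
    _ = g * (u * (g⁻¹ * n * g)) * g⁻¹ := by rw [h2]
    _ = g * u * g⁻¹ * n := by group

theorem bb_norm_yy : bb (S : Subgroup G) I Fl ≤ normalizer (yy N Fl : Set G) :=
  Block.le_normalizer_of_forall fun _ hg _ hu => h.yy_conj (pp_le_nF _ _ hg.1) hg.2 hu

/-- `P ≰ M` -/
theorem not_le_M : ¬ pp (S : Subgroup G) Fl ≤ normalizer (I : Set G) := by
  intro hle
  apply h.not_le
  intro v hv
  by_cases hv1 : v = 1
  · rw [hv1]; exact one_mem _
  · obtain ⟨p, hp, rfl⟩ := h.tr' hv hv1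
    exact (h.yy_conj (pp_le_nF _ _ hp) (hle hp) h.z_yy).2

/-- `B` is transitive on `Y#` -/
theorem trb {v : G} (hv : v ∈ yy N Fl) (hv1 : v ≠ 1) : ∃ g ∈ bb (S : Subgroup G) I Fl, g * z * g⁻¹ = v := by
  obtain ⟨p, hp, rfl⟩ := h.tr' hv.1 hv1
  exact ⟨p, ⟨hp, h.mem_M_of h.z_yy h.z_ne hv⟩, rfl⟩

theorem tt_le_S : tt (S : Subgroup G) I Fl ≤ (S : Subgroup G) := o2_le_syl (syl_of_le h.S_le_bb)

theorem tt_le_bb : tt (S : Subgroup G) I Fl ≤ bb (S : Subgroup G) I Fl := ChoiceSit.o2_le _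

theorem tt_conj {b t : G} (hb : b ∈ bb (S : Subgroup G) I Fl) (ht : t ∈ tt (S : Subgroup G) I Fl) :
    b * t * b⁻¹ ∈ tt (S : Subgroup G) I Fl := (mem_normalizer_iff.1 (Block.le_normalizer_o2 _ hb) t).1 ht

/-- `T` centralises `Y` -/
theorem tt_cent {t v : G} (ht : t ∈ tt (S : Subgroup G) I Fl) (hv : v ∈ yy N Fl) : t * v = v * t := by
  by_cases hv1 : v = 1
  · rw [hv1, one_mul, mul_one]
  · obtain ⟨p, hp, rfl⟩ := h.trb hv hv1
    have h1 : p⁻¹ * t * p ∈ tt (S : Subgroup G) I Fl := by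
      have := h.tt_conj (inv_mem hp) ht
      rwa [inv_inv] at this
    have h2 := h.z_S (h.tt_le_S h1)
    calc t * (p * z * p⁻¹) = p * (p⁻¹ * t * p * z) * p⁻¹ := by group
      _ = p * (z * (p⁻¹ * t * p)) * p⁻¹ := by rw [h2]
      _ = p * z * p⁻¹ * t := by group

/-- `C_S(Fl) ≤ T` -/
theorem cs_le_tt : (S : Subgroup G) ⊓ centralizer (Fl : Set G) ≤ tt (S : Subgroup G) I Fl :=
  ChoiceSit.le_o2 (S.isPGroup'.to_le inf_le_left) (inf_le_left.trans h.S_le_bb)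
    (inf_le_left.trans (pp_le_nC _ _))

/-- `Y ∩ Y ^ g = 1` for `g ∉ M` -/
theorem yy_inf {g : G} (hg : g ∉ normalizer (I : Set G)) {u : G} (hu : u ∈ yy N Fl) (hgu : g * u * g⁻¹ ∈ yy N Fl) :
    u = 1 := by
  by_contra hu1
  exact hg (h.mem_M_of hu hu1 hgu)

/-- `Fl` is the union of the `Y ^ g`, `g ∈ P` -/
theorem cov {v : G} (hv : v ∈ Fl) : ∃ g ∈ pp (S : Subgroup G) Fl, g⁻¹ * v * g ∈ yy N Fl := by
  by_cases hv1 : v = 1
  · exact ⟨1, one_mem _, by rw [hv1]; simp [one_mem]⟩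
  · obtain ⟨p, hp, rfl⟩ := h.tr' hv hv1
    refine ⟨p, hp, ?_⟩
    have e : p⁻¹ * (p * z * p⁻¹) * p = z := by group
    rw [e]
    exact h.z_yy

end Ln

end Cfsg.Agent.OddCyclic.EmpN
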