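import Cfsg.Agent.OddCyclic.EmpN.Line
import Cfsg.Agent.OddCyclic.EmpN.Two

/-!
# (Empty)-III, (6.4): the two kinds of lines

* `LnK S I N Fl z f k`: a line with `|Y| = 2 ^ f`, `|Fl| = |Y| ^ 2`, (LP3), (h), (k);
* `NF.lnA` (α): `K = F`, `Fl = V`, `k = 1`; `NF.lnB` (β): `K ≠ F`, `Fl = K₂ e₁`, `k = f`;
* `fs`: `f` odd gives `[Fl, S] ≤ Y`.
-/

set_option autoImplicit false
set_option linter.unusedSectionVars false

namespace Cfsg.Agent.OddCyclic.EmpN

open Subgroup Cfsg Cfsg.Agent.ZN Cfsg.Agent.ZN.ChoiceBase Cfsg.Agent.ZN.ChoiceSit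
open Cfsg.Agent.MinSimple Cfsg.Agent.MinSimple.EmptyTI Cfsg.Agent.MinSimple.EmptySix
open Cfsg.Agent.MinSimple.EmptyE.Closed (LL CC cl mem_cl cl_eq cl_le vv_comm vv_sq vv_mul_self vv_inv
  isPGroup_vv vv_le_jj vv_le jj_le_centralizer_vv conj_mem_vv cj_vv)
open Cfsg.Agent.OddCyclic.EmpFrame
open Cfsg.Agent.OddCyclic.T1Defs (OddCyc)
open Cfsg.Agent.Omega.NatPair Cfsg.Agent.Lib.SL2Mat

universe u

variable {G : Type u} [Group G]

theorem card_mul_rel {H K : Subgroup G} (h : H ≤ K) : Nat.card H * H.relIndex K = Nat.card K := by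
  have h1 := relIndex_mul_relIndex ⊥ H K bot_le h
  rwa [relIndex_bot_left, relIndex_bot_left] at h1

theorem rel_ne [Finite G] (H K : Subgroup G) : H.relIndex K ≠ 0 := index_ne_zero_of_finite

/-- index of a stabiliser -/
theorem relIndex_le_ncard [Finite G] {T C : Subgroup G} {v : G} {Ω : Set G} (hC : ∀ t ∈ T, t * v = v * t → t ∈ C)
    (hΩ : ∀ t ∈ T, t * v * t⁻¹ ∈ Ω) : C.relIndex T ≤ Ω.ncard := by
  have h1 : Nat.card (T ⧸ C.subgroupOf T) ≤ Nat.card Ω := by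
    refine Nat.card_le_card_of_injective
      (fun q : T ⧸ C.subgroupOf T => (⟨(q.out : G) * v * (q.out : G)⁻¹, hΩ _ q.out.2⟩ : Ω)) ?_
    intro a b hab
    have h2 : (a.out : G) * v * (a.out : G)⁻¹ = (b.out : G) * v * (b.out : G)⁻¹ := congrArg Subtype.val hab
    have h3 : ((a.out : T)⁻¹ * b.out : T) ∈ C.subgroupOf T := by
      rw [mem_subgroupOf]
      refine hC _ ((a.out : T)⁻¹ * b.out : T).2 ?_
      change (a.out : G)⁻¹ * (b.out : G) * v = v * ((a.out : G)⁻¹ * (b.out : G))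
      calc (a.out : G)⁻¹ * (b.out : G) * v = (a.out : G)⁻¹ * ((b.out : G) * v * (b.out : G)⁻¹) * (b.out : G) := by group
        _ = v * ((a.out : G)⁻¹ * (b.out : G)) := by rw [← h2]; group
    rw [← QuotientGroup.out_eq' a, ← QuotientGroup.out_eq' b]
    exact QuotientGroup.eq.2 h3
  exact h1

variable [Finite G] {S : Sylow 2 G} {I N Fl : Subgroup G} {z : G}

/-- a line with `|Fl| = |Y| ^ 2` -/
structure LnK (S : Sylow 2 G) (I N Fl : Subgroup G) (z : G) (f k : ℕ) : Prop extends Ln S I N Fl z where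
  f_two : 2 ≤ f
  k_one : 1 ≤ k
  card_yy : Nat.card (yy N Fl) = 2 ^ f
  card_F : Nat.card Fl = 2 ^ (2 * f)
  lp3 : ∀ t ∈ tt (S : Subgroup G) I Fl, ∀ v ∈ Fl, t * v * t⁻¹ * v⁻¹ ∈ yy N Fl
  fixw : ∀ t ∈ tt (S : Subgroup G) I Fl, t ∉ centralizer (Fl : Set G) → ∀ v ∈ Fl, t * v = v * t → v ∈ yy N Fl
  idx : (centralizer (Fl : Set G)).relIndex (tt (S : Subgroup G) I Fl) ^ k ≤ 2 ^ f

namespace LnK

variable {f k : ℕ} (h : LnK S I N Fl z f k)

include h

/-- (h) -/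
theorem card_div {E : Subgroup G} (hE : E ≤ tt (S : Subgroup G) I Fl) (hc : ¬ E ≤ centralizer (Fl : Set G)) :
    (centralizer (E : Set G)).relIndex Fl = 2 ^ f := by
  have h1 : Fl ⊓ centralizer (E : Set G) = yy N Fl := by
    apply le_antisymm
    · obtain ⟨t, ht, htc⟩ := SetLike.not_le_iff_exists.1 hc
      intro v hv
      exact h.fixw t (hE ht) htc v hv.1 (mem_centralizer_iff.1 hv.2 t ht)
    · intro v hv
      refine mem_inf.2 ⟨hv.1, mem_centralizer_iff.2 fun t ht => h.tt_cent (hE ht) hv⟩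
  rw [← inf_relIndex_left, h1]
  have h2 := card_mul_rel (yy_le N Fl)
  rw [h.card_yy, h.card_F, two_mul, pow_add] at h2
  exact Nat.eq_of_mul_eq_mul_left (by positivity) h2

/-- (k) -/
theorem kk {E : Subgroup G} (hE : E ≤ tt (S : Subgroup G) I Fl) :
    (centralizer (Fl : Set G)).relIndex E ^ k ≤ (centralizer (E : Set G)).relIndex Fl := by
  by_cases hc : E ≤ centralizer (Fl : Set G)
  · have h1 : (centralizer (Fl : Set G)).relIndex E = 1 := relIndex_eq_one.2 hc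
    rw [h1, one_pow]
    exact Nat.one_le_iff_ne_zero.2 (rel_ne _ _)
  · rw [h.card_div hE hc]
    refine le_trans (Nat.pow_le_pow_left ?_ k) h.idx
    exact relIndex_le_of_le_right hE (rel_ne _ _)

/-- two different conjugates: (EV) for `k ≥ 2` -/
theorem ev_of_two (hk : 2 ≤ k) {g : G} (h1 : cj g Fl ≤ tt (S : Subgroup G) I Fl)
    (h2 : Fl ≤ cj g (tt (S : Subgroup G) I Fl)) : cj g Fl ≤ centralizer (Fl : Set G) := by
  by_contra hc
  obtain ⟨x, hx⟩ : ∃ x, x = (centralizer (Fl : Set G)).relIndex (cj g Fl) := ⟨_, rfl⟩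
  obtain ⟨y, hy⟩ : ∃ y, y = (centralizer ((cj g Fl : Subgroup G) : Set G)).relIndex Fl := ⟨_, rfl⟩
  have e1 := h.kk h1
  rw [← hx, ← hy] at e1
  have h3 : cj g⁻¹ Fl ≤ tt (S : Subgroup G) I Fl := by
    have := cj_mono g⁻¹ h2
    rwa [cj_cj, inv_mul_cancel, cj_one] at this
  have e2 := h.kk h3
  have h4 : (centralizer (Fl : Set G)).relIndex (cj g⁻¹ Fl) = y := by
    have h5 := relIndex_map_map_of_injective (centralizer (Fl : Set G)) (cj g⁻¹ Fl) (f := (MulAut.conj g).toMonoidHom) (MulAut.conj g).injective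
    have h6 : cj g (centralizer (Fl : Set G)) = centralizer ((cj g Fl : Subgroup G) : Set G) := cj_centralizer _ _
    have h7 : cj g (cj g⁻¹ Fl) = Fl := by rw [cj_cj, mul_inv_cancel, cj_one]
    change (cj g (centralizer (Fl : Set G))).relIndex (cj g (cj g⁻¹ Fl)) = _ at h5
    rw [h6, h7] at h5
    rw [← h5, hy]
  have h8 : (centralizer ((cj g⁻¹ Fl : Subgroup G) : Set G)).relIndex Fl = x := by
    have h5 := relIndex_map_map_of_injective (centralizer ((cj g⁻¹ Fl : Subgroup G) : Set G)) Fl (f := (MulAut.conj g).toMonoidHom) (MulAut.conj g).injective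
    have h6 : cj g (centralizer ((cj g⁻¹ Fl : Subgroup G) : Set G)) = centralizer ((cj g (cj g⁻¹ Fl) : Subgroup G) : Set G) :=
      cj_centralizer _ _
    have h7 : cj g (cj g⁻¹ Fl) = Fl := by rw [cj_cj, mul_inv_cancel, cj_one]
    change (cj g (centralizer ((cj g⁻¹ Fl : Subgroup G) : Set G))).relIndex (cj g Fl) = _ at h5
    rw [h6, h7] at h5
    rw [← h5, hx]
  rw [h4, h8] at e2
  have hx1 : 2 ≤ x := by
    have h9 : x ≠ 1 := fun h9 => hc (relIndex_eq_one.1 (hx ▸ h9))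
    have h10 : x ≠ 0 := hx ▸ rel_ne _ _
    omega
  have e3 : x ^ 2 ≤ x ^ k := Nat.pow_le_pow_right (by omega) hk
  have hy0 : 1 ≤ y := Nat.one_le_iff_ne_zero.2 (hy ▸ rel_ne _ _)
  have e4 : y ^ 2 ≤ y ^ k := Nat.pow_le_pow_right hy0 hk
  nlinarith

end LnK

end Cfsg.Agent.OddCyclic.EmpN
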