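import Cfsg.Agent.OddCyclic.EmpN.LineAB

/-!
# (Empty)-III, (6.4) (α): `K = F`, the line `Fl = V`
-/

set_option autoImplicit false
set_option linter.unusedSectionVars false

namespace Cfsg.Agent.OddCyclic.EmpN

open Subgroup Cfsg Cfsg.Agent.ZN Cfsg.Agent.ZN.ChoiceBase Cfsg.Agent.ZN.ChoiceSit
open Cfsg.Agent.MinSimple Cfsg.Agent.MinSimple.EmptyTI Cfsg.Agent.MinSimple.EmptySix
open Cfsg.Agent.MinSimple.EmptyE.Closed (LL CC cl mem_cl cl_eq cl_le vv_comm vv_sq vv_mul_self vv_inv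
  isPGroup_vv vv_le_jj vv_le jj_le_centralizer_vv conj_mem_vv cj_vv)
open Cfsg.Agent.OddCyclic.EmpFrame
open Cfsg.Agent.OddCyclic.T1Defs (OddCyc)
open Cfsg.Agent.Omega.NatPair Cfsg.Agent.Lib.SL2Mat

universe u

variable {G : Type u} [Group G] [Finite G] {S : Sylow 2 G} {I N : Subgroup G}
  {F : Type} [Field F] [Fintype F] [CharP F 2] {M : NatMod F (vv (S : Subgroup G))}

/-- a matrix with given first column -/
theorem exists_col {x : Fin 2 → F} (hx : x ≠ 0) : ∃ A : Matrix.SpecialLinearGroup (Fin 2) F, ap A (e₁ F) = x := by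
  by_cases h0 : x 0 = 0
  · have h1 : x 1 ≠ 0 := fun h1 => hx (ext2 h0 h1)
    refine ⟨mk 0 (-(x 1)⁻¹) (x 1) 0 (by rw [zero_mul, neg_mul, inv_mul_cancel₀ h1]; ring), ?_⟩
    apply ext2
    · rw [ap_zero']; simp [h0]
    · rw [ap_one']; simp
  · refine ⟨mk (x 0) 0 (x 1) (x 0)⁻¹ (by rw [mul_inv_cancel₀ h0]; ring), ?_⟩
    apply ext2
    · rw [ap_zero']; simp
    · rw [ap_one']; simp

namespace NF

variable (h : NF S I N M)

include h

theorem e1_ne : M.e (e₁ F) ≠ 1 := fun h2 => e₁_ne (M.e_eq_one.1 h2)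

theorem lnA_base : Ln S I N (vv (S : Subgroup G)) (M.e (e₁ F)) where
  ens := h.ens
  ti := h.ti
  jp := h.jp
  le := le_rfl
  z_mem := M.e_mem _
  z_zc := h.e1
  z_ne := h.e1_ne
  norm := h.S_le_LL
  tr := by
    intro v hv hv1
    obtain ⟨x, rfl⟩ := (M.mem_iff v).1 hv
    have hx : x ≠ 0 := fun h0 => hv1 (by rw [h0, M.e_zero])
    obtain ⟨A, hA⟩ := exists_col hx
    obtain ⟨n, hn, hi⟩ := h.exists_ind A
    exact ⟨n, ⟨hn, h.nj_le hn⟩, by rw [hi, hA]⟩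
  not_le := by
    intro hle
    apply h.jp.not_le_centralizer_vv h.ens h.ti
    rwa [le_centralizer_iff] at hle

/-- elements of `P` inducing a given matrix -/
theorem exists_ind_pp (A : Matrix.SpecialLinearGroup (Fin 2) F) :
    ∃ p ∈ pp (S : Subgroup G) (vv (S : Subgroup G)), M.Ind p A := by
  obtain ⟨n, hn, hi⟩ := h.exists_ind A
  obtain ⟨p, hp, c, hc, rfl⟩ := h.lnA_base.exists_mul (g := n) ⟨hn, h.nj_le hn⟩
  refine ⟨p, hp, ?_⟩
  have h2 := ind_mul M (A := A) (B := 1) (h := c⁻¹) hi (ind_of_cent M (inv_mem hc))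
  rwa [mul_inv_cancel_right, mul_one] at h2

theorem card_F_pow : ∃ f, Fintype.card F = 2 ^ f ∧ 2 ≤ f := by
  obtain ⟨n, -, hn⟩ := FiniteField.card F 2
  refine ⟨n, hn, ?_⟩
  have h4 := h.four
  rw [hn] at h4
  by_contra hlt
  have h5 : (n : ℕ) ≤ 1 := by omega
  have h6 : 2 ^ (n : ℕ) ≤ 2 ^ 1 := Nat.pow_le_pow_right (by norm_num) h5
  omega

theorem yyA (hK : h.KK = ⊤) {x : Fin 2 → F} : M.e x ∈ yy N (vv (S : Subgroup G)) ↔ x 1 = 0 := by
  constructor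
  · intro hx
    have h1 := h.yv_line hx
    rw [h1]
    simp
  · intro hx
    have h1 : x = x 0 • e₁ F := by
      conv_lhs => rw [vec_eq x, hx, zero_smul, add_zero]
    rw [h1]
    exact h.mem_KK'.1 (by rw [hK]; exact Subfield.mem_top _)

/-- elements of `T` act as upper unitriangular matrices -/
theorem up_of {t : G} (ht : t ∈ normalizer (vv (S : Subgroup G) : Set G)) (hK : h.KK = ⊤)
    (h1 : ∀ v ∈ yy N (vv (S : Subgroup G)), t * v = v * t)
    (h2 : t * M.e (e₂ F) * t⁻¹ * (M.e (e₂ F))⁻¹ ∈ yy N (vv (S : Subgroup G))) : ∃ a, M.Ind t (up a) := by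
  have hfix : ∀ c : F, M.act t (c • e₁ F) = c • e₁ F := fun c =>
    (fix_iff M ht _).1 (h1 _ ((h.yyA hK).2 (by simp)))
  have hte : M.act t (e₁ F) = e₁ F := by have := hfix 1; rwa [one_smul] at this
  have hσ : sig M t = 1 := sig_eq_one ht e₁_ne fun c => by rw [hfix, hte]
  rw [← M.e_act ht, ← M.e_sub, h.yyA hK] at h2
  simp only [Pi.sub_apply, Matrix.cons_val_one, Matrix.cons_val_fin_one] at h2
  have h3 : M.act t (e₂ F) = (M.act t (e₂ F)) 0 • e₁ F + e₂ F := by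
    conv_lhs => rw [vec_eq (M.act t (e₂ F)), sub_eq_zero.1 h2, one_smul]
  obtain ⟨a, ha⟩ : ∃ a, a = (M.act t (e₂ F)) 0 := ⟨_, rfl⟩
  rw [← ha] at h3
  refine ⟨a, M.ind_of_act ht fun x => ?_⟩
  conv_lhs => rw [vec_eq x]
  rw [M.act_add ht, hfix, sig_spec ht, hσ, h3, ap_up]
  apply ext2
  · simp [mul_comm]
  · simp

/-- (α) -/
theorem lnA (hK : h.KK = ⊤) {f : ℕ} (hf : Fintype.card F = 2 ^ f) (hf2 : 2 ≤ f) :
    LnK S I N (vv (S : Subgroup G)) (M.e (e₁ F)) f 1 := by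
  have hb := h.lnA_base
  have hT : ∀ t ∈ tt (S : Subgroup G) I (vv (S : Subgroup G)), t ∈ normalizer (vv (S : Subgroup G) : Set G) :=
    fun t ht => h.S_le_LL (hb.tt_le_S ht)
  have hcy : Nat.card (yy N (vv (S : Subgroup G))) = 2 ^ f := by
    have h1 := h.card_yv
    rw [hK] at h1
    have h2 : Nat.card (⊤ : Subfield F) = Nat.card F := Nat.card_congr Subfield.topEquiv.toEquiv
    rw [h2, Nat.card_eq_fintype_card (α := F), hf] at h1
    exact h1
  have hcF : Nat.card (vv (S : Subgroup G)) = 2 ^ (2 * f) := by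
    rw [M.card_V, Nat.card_eq_fintype_card, hf, ← pow_mul, mul_comm]
  -- (LP3)
  have hlp3 : ∀ t ∈ tt (S : Subgroup G) I (vv (S : Subgroup G)), ∀ v ∈ vv (S : Subgroup G),
      t * v * t⁻¹ * v⁻¹ ∈ yy N (vv (S : Subgroup G)) := by
    obtain ⟨v₀, hv₀, hv₀Y, hv₀S⟩ := A4ELayer.exists_central_mod (S := (S : Subgroup G)) (N := vv (S : Subgroup G))
      (E := yy N (vv (S : Subgroup G))) S.isPGroup' vv_le
      (fun s hs e he => h.lnA_base.yy_conj (h.S_le_LL hs) (h.ti.S_le hs) he)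
      (fun s hs v hv => (mem_normalizer_iff.1 (h.S_le_LL hs) v).1 hv)
      (fun hle => hb.not_le (hle.trans (yy_le_cent _ _)))
    obtain ⟨x, rfl⟩ := (M.mem_iff v₀).1 hv₀
    have hx1 : x 1 ≠ 0 := fun h0 => hv₀Y ((h.yyA hK).2 h0)
    intro t ht v hv
    by_cases hvY : v ∈ yy N (vv (S : Subgroup G))
    · rw [hb.tt_cent ht hvY, mul_inv_cancel_right, mul_inv_cancel]
      exact one_mem _
    · obtain ⟨w, rfl⟩ := (M.mem_iff v).1 hv
      have hw1 : w 1 ≠ 0 := fun h0 => hvY ((h.yyA hK).2 h0)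
      have hl0 : x 1 * (w 1)⁻¹ ≠ 0 := mul_ne_zero hx1 (inv_ne_zero hw1)
      obtain ⟨b, hb1, hbi⟩ := h.exists_ind_pp (dg (x 1 * (w 1)⁻¹) hl0)
      have hbM := h.dg_mem_M hl0 (h.mem_KK.1 (by rw [hK]; exact Subfield.mem_top _)) hbi
      have hbB : b ∈ bb (S : Subgroup G) I (vv (S : Subgroup G)) := ⟨hb1, hbM⟩
      -- `e w = y · e(x)^b`
      obtain ⟨y, hy⟩ : ∃ y, y = w - ap (dg (x 1 * (w 1)⁻¹) hl0) x := ⟨_, rfl⟩
      have hyY : M.e y ∈ yy N (vv (S : Subgroup G)) := by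
        rw [h.yyA hK, hy, ap_dg]
        simp only [Pi.sub_apply, Matrix.cons_val_one, Matrix.cons_val_fin_one]
        rw [mul_inv, inv_inv, mul_comm (x 1)⁻¹, mul_assoc, inv_mul_cancel₀ hx1, mul_one, sub_self]
      have hw : M.e w = b * M.e x * b⁻¹ * M.e y := by
        rw [hbi x, ← M.e_add, hy, add_sub_cancel]
      have h1 := h.lnA_base.tt_conj (inv_mem hbB) ht
      rw [inv_inv] at h1
      have h2 := hv₀S _ (hb.tt_le_S h1)
      have h3 := hb.yy_conj (M.mem_normalizer hbi) hbM h2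
      have h4 := hb.tt_cent ht hyY
      rw [hw]
      have e1 : t * (b * M.e x * b⁻¹ * M.e y) * t⁻¹ * (b * M.e x * b⁻¹ * M.e y)⁻¹ =
          b * (b⁻¹ * t * b * M.e x * (b⁻¹ * t * b)⁻¹ * (M.e x)⁻¹) * b⁻¹ := by
        calc t * (b * M.e x * b⁻¹ * M.e y) * t⁻¹ * (b * M.e x * b⁻¹ * M.e y)⁻¹
            = t * (b * M.e x * b⁻¹) * (M.e y * t⁻¹) * (M.e y)⁻¹ * b * (M.e x)⁻¹ * b⁻¹ := by group
          _ = t * (b * M.e x * b⁻¹) * (t⁻¹ * (t * M.e y) * t⁻¹) * (M.e y)⁻¹ * b * (M.e x)⁻¹ * b⁻¹ := by group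
          _ = t * (b * M.e x * b⁻¹) * (t⁻¹ * (M.e y * t) * t⁻¹) * (M.e y)⁻¹ * b * (M.e x)⁻¹ * b⁻¹ := by rw [h4]
          _ = b * (b⁻¹ * t * b * M.e x * (b⁻¹ * t * b)⁻¹ * (M.e x)⁻¹) * b⁻¹ := by group
      rw [e1]
      exact h3
  have hup : ∀ t ∈ tt (S : Subgroup G) I (vv (S : Subgroup G)), ∃ a, M.Ind t (up a) := fun t ht =>
    h.up_of (hT t ht) hK (fun v hv => hb.tt_cent ht hv) (hlp3 t ht _ (M.e_mem _))
  refine { hb with
    f_two := hf2
    k_one := le_rfl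
    card_yy := hcy
    card_F := hcF
    lp3 := hlp3
    fixw := ?_
    idx := ?_ }
  · intro t ht htc v hv hcomm
    obtain ⟨a, ha⟩ := hup t ht
    have ha0 : a ≠ 0 := by
      rintro rfl
      rw [up_zero] at ha
      exact htc (cent_of_ind M ha)
    obtain ⟨x, rfl⟩ := (M.mem_iff v).1 hv
    have h1 := (fix_iff M (hT t ht) x).1 hcomm
    rw [M.act_of_ind ha, ap_up] at h1
    have h2 := congrFun h1 0
    simp only [Matrix.cons_val_zero, add_eq_left] at h2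
    exact (h.yyA hK).2 ((mul_eq_zero.1 h2).resolve_left ha0)
  · rw [pow_one]
    refine (relIndex_le_ncard (v := M.e (e₂ F)) (Ω := (fun a : F => M.e (![a, 1])) '' Set.univ) ?_ ?_).trans
      ((Set.ncard_image_le (Set.toFinite _)).trans ?_)
    · intro t ht hcomm
      obtain ⟨a, ha⟩ := hup t ht
      have h1 := (fix_iff M (hT t ht) _).1 hcomm
      rw [M.act_of_ind ha, ap_up] at h1
      have h2 := congrFun h1 0
      have ha0 : a = 0 := by simpa using h2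
      rw [ha0, up_zero] at ha
      exact cent_of_ind M ha
    · intro t ht
      obtain ⟨a, ha⟩ := hup t ht
      refine ⟨a, Set.mem_univ _, ?_⟩
      change M.e ![a, 1] = _
      rw [ha, ap_up]
      congr 1
      apply ext2 <;> simp
    · rw [Set.ncard_univ, Nat.card_eq_fintype_card, hf]

/-- (α), `f` odd: `[V, S] ≤ Y` -/
theorem fsA (hK : h.KK = ⊤) {f : ℕ} (hf : Fintype.card F = 2 ^ f) (hodd : Odd f) :
    ∀ s ∈ (S : Subgroup G), ∀ v ∈ vv (S : Subgroup G), s * v * s⁻¹ * v⁻¹ ∈ yy N (vv (S : Subgroup G)) := by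
  intro s hs v hv
  have hsL := h.S_le_LL hs
  have hcK : Nat.card h.KK = 2 ^ f := by
    rw [hK]
    have h2 : Nat.card (⊤ : Subfield F) = Nat.card F := Nat.card_congr Subfield.topEquiv.toEquiv
    rw [h2, Nat.card_eq_fintype_card (α := F), hf]
  have hσ : sig M s = 1 := by
    ext c
    exact fix_of_odd h.isPGroup_sigS (fun c hc => h.mem_KK_of_fix hc) hodd hcK _ (h.mem_sigS.2 ⟨s, hs, rfl⟩) c
      (by rw [hK]; exact Subfield.mem_top _)
  obtain ⟨x, rfl⟩ := (M.mem_iff v).1 hv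
  rw [← M.e_act hsL, ← M.e_sub, h.yyA hK]
  -- the second coordinate
  obtain ⟨μ, hμ⟩ : ∃ μ, μ = (M.act s (e₂ F)) 1 := ⟨_, rfl⟩
  have h2nd : ∀ y : Fin 2 → F, (M.act s y) 1 = μ * y 1 := by
    intro y
    conv_lhs => rw [vec_eq y]
    rw [M.act_add hsL, sig_spec hsL, sig_spec hsL, hσ, h.act_e1 hs]
    simp [hμ, mul_comm]
  have hpow : ∀ n : ℕ, ∀ y : Fin 2 → F, (M.act (s ^ n) y) 1 = μ ^ n * y 1 := by
    intro n
    induction n with
    | zero => intro y; rw [pow_zero, pow_zero, M.act_one, one_mul]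
    | succ n ih =>
      intro y
      rw [pow_succ, M.act_mul (pow_mem hsL n) hsL, ih, h2nd, pow_succ]
      ring
  obtain ⟨k, hk⟩ := S.isPGroup' ⟨s, hs⟩
  have hk' : s ^ 2 ^ k = 1 := congrArg Subtype.val hk
  have h1 := hpow (2 ^ k) (e₂ F)
  rw [hk', M.act_one] at h1
  have h3 : μ ^ 2 ^ k = 1 := by simpa using h1.symm
  have h4 : μ = 1 := by
    have h5 : (μ - 1) ^ 2 ^ k = 0 := by rw [CharTwo.sub_eq_add, add_pow_q, h3, one_pow, CharTwo.add_self_eq_zero]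
    exact sub_eq_zero.1 (pow_eq_zero_iff (by positivity) |>.1 h5)
  simp only [Pi.sub_apply]
  rw [h2nd, h4, one_mul, sub_self]

end NF

end Cfsg.Agent.OddCyclic.EmpN
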