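import Cfsg.Agent.ClassTwoFusion.SL2Field
import Cfsg.Agent.OddCyclic.T1Module

/-!
# (Empty)-III: coordinates of a natural `SL₂(2^n)`-module

`exists_coord`: `L ≃ SL₂(F₀)` acts faithfully on the elementary abelian group `V` of order `|F₀|²`, `C_V(L) = 1`, `T` a
Sylow 2-subgroup of `L`, `|C_V(T)| = |F₀|`, `C_V(t) = C_V(T)` for `t ∈ T#`: there are coordinates `V ≃ F²`,
`φ : L ≃* SL₂(F)` with `C_V(T) = F e₁`.
-/

set_option autoImplicit false
set_option linter.unusedSectionVars false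

namespace Cfsg.Agent.OddCyclic.EmpN

open Subgroup Cfsg.Agent.OddCyclic.T1Sl2 Cfsg.Agent.OddCyclic.T1Module
open Matrix (SpecialLinearGroup)

section sl

variable {F : Type*} [Field F] [Fintype F] [CharP F 2]

/-- an involution normalising a Sylow 2-subgroup lies in it -/
theorem mem_of_smul {U : Sylow 2 (SpecialLinearGroup (Fin 2) F)} {t : SpecialLinearGroup (Fin 2) F} (ht : t * t = 1)
    (h : t • U = U) : t ∈ U := by
  obtain ⟨P, hP⟩ := exists_sylow_mem ht
  have h1 : IsPGroup 2 (zpowers t) := P.isPGroup'.to_le (zpowers_le.2 hP)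
  have h2 := h1.inf_normalizer_sylow U
  have h3 : t ∈ zpowers t ⊓ (U : Subgroup (SpecialLinearGroup (Fin 2) F)) := by
    rw [← h2]
    exact ⟨mem_zpowers t, Sylow.smul_eq_iff_mem_normalizer.1 h⟩
  exact h3.2

/-- involutions commuting with an involution of `U` lie in `U` -/
theorem mem_of_comm {U : Sylow 2 (SpecialLinearGroup (Fin 2) F)} {z t : SpecialLinearGroup (Fin 2) F} (hz : z ∈ U)
    (hz1 : z ≠ 1) (ht : t * t = 1) (htz : t * z = z * t) : t ∈ U := by
  apply mem_of_smul ht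
  by_contra hne
  apply hz1
  refine sylow_ti hne ?_ hz
  have h1 := conj_mem_smul (g := t) hz
  rwa [htz, mul_inv_cancel_right] at h1

theorem odd_of_sylow {U U' : Sylow 2 (SpecialLinearGroup (Fin 2) F)} (h : U ≠ U') {t s : SpecialLinearGroup (Fin 2) F}
    (ht : t ∈ U) (hs : s ∈ U') (ht1 : t ≠ 1) (hs1 : s ≠ 1) : Odd (orderOf (t * s)) := by
  by_contra hodd
  rw [Nat.not_odd_iff_even] at hodd
  obtain ⟨m, hm⟩ := hodd
  have htt := sylow_elem U t ht
  have hss := sylow_elem U' s hs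
  have hpos := orderOf_pos (t * s)
  have hm0 : 0 < m := by omega
  obtain ⟨z, hz⟩ : ∃ z, z = (t * s) ^ m := ⟨_, rfl⟩
  have hz1 : z ≠ 1 := by
    rw [hz]
    intro h1
    have h2 := Nat.le_of_dvd hm0 (orderOf_dvd_of_pow_eq_one h1)
    omega
  have hzz : z * z = 1 := by
    rw [hz, ← pow_add, ← hm, pow_orderOf_eq_one]
  have hzi : z⁻¹ = z := inv_eq_of_mul_eq_one_left hzz
  have hti : t⁻¹ = t := inv_eq_of_mul_eq_one_left htt
  have hsi : s⁻¹ = s := inv_eq_of_mul_eq_one_left hss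
  have h1 : t * z * t⁻¹ = z := by
    have h2 : t * (t * s) * t⁻¹ = (t * s)⁻¹ := by
      rw [mul_inv_rev, hsi, ← mul_assoc t t s, htt, one_mul]
    rw [hz, ← conj_pow, h2, inv_pow, ← hz, hzi]
  have h3 : s * z * s⁻¹ = z := by
    have h2 : s * (t * s) * s⁻¹ = (t * s)⁻¹ := by
      rw [mul_inv_rev, hsi, hti]
      calc s * (t * s) * s = s * t * (s * s) := by group
        _ = s * t := by rw [hss, mul_one]
    rw [hz, ← conj_pow, h2, inv_pow, ← hz, hzi]
  obtain ⟨P, hP⟩ := exists_sylow_mem hzz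
  have h4 : t ∈ P := mem_of_comm hP hz1 htt (mul_inv_eq_iff_eq_mul.1 h1)
  have h5 : s ∈ P := mem_of_comm hP hz1 hss (mul_inv_eq_iff_eq_mul.1 h3)
  have h6 : U = P := by
    by_contra hne
    exact ht1 (sylow_ti hne ht h4)
  have h7 : U' = P := by
    by_contra hne
    exact hs1 (sylow_ti hne hs h5)
  exact h (h6.trans h7.symm)

end sl

theorem exists_coord {L V : Type*} [Group L] [Finite L] [CommGroup V] [Finite V] [MulDistribMulAction L V]
    {F₀ : Type*} [Field F₀] [Fintype F₀] [CharP F₀ 2] (e₀ : L ≃* SpecialLinearGroup (Fin 2) F₀)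
    (sq : ∀ v : V, v * v = 1) (faith : ∀ x : L, (∀ v : V, x • v = v) → x = 1)
    (hbot : ∀ v : V, (∀ x : L, x • v = v) → v = 1) (hcard : Nat.card V = Fintype.card F₀ ^ 2) (T : Subgroup L)
    (hT : IsPGroup 2 T) (hTc : Nat.card T = Fintype.card F₀) (U : Subgroup V)
    (hU : ∀ v, v ∈ U ↔ ∀ t ∈ T, t • v = v) (hUc : Nat.card U = Fintype.card F₀)
    (reg : ∀ t ∈ T, t ≠ 1 → ∀ v : V, t • v = v → v ∈ U) :
    ∃ (F : Type) (_ : Field F) (_ : Fintype F) (_ : CharP F 2) (φ : L ≃* Matrix.SpecialLinearGroup (Fin 2) F)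
      (e : V → (Fin 2 → F)), Nat.card F = Nat.card T ∧ (∀ v w, e (v * w) = e v + e w) ∧
      Function.Surjective e ∧ (∀ v, e v = 0 ↔ v = 1) ∧ (∀ x v, e (x • v) = (φ x).1.mulVec (e v)) ∧
      (∀ v, v ∈ U ↔ e v 1 = 0) ∧ (∀ x, x ∈ T ↔ ∃ a : F, (φ x).1 = !![1, a; 0, 1]) := by
  have h2p : Fact (Nat.Prime 2) := ⟨Nat.prime_two⟩
  -- `T` as a Sylow subgroup of `SL₂(F₀)`
  obtain ⟨P, hP⟩ := (hT.map e₀.toMonoidHom).exists_le_sylow
  have hTP : T.map e₀.toMonoidHom = (P : Subgroup (SpecialLinearGroup (Fin 2) F₀)) := by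
    apply Subgroup.eq_of_le_of_card_ge hP
    rw [Subgroup.card_map_of_injective e₀.injective, hTc]
    exact (card_sylow P).le
  have hmem : ∀ x : L, x ∈ T ↔ e₀ x ∈ P := by
    intro x
    constructor
    · intro hx
      exact hP ⟨x, hx, rfl⟩
    · intro hx
      have h1 : e₀ x ∈ T.map e₀.toMonoidHom := by rw [hTP]; exact hx
      obtain ⟨y, hy, hyx⟩ := h1
      rwa [← e₀.injective hyx]
  have hcj : ∀ g x : L, g * x * g⁻¹ ∈ T ↔ e₀ x ∈ (e₀ g)⁻¹ • P := by
    intro g x
    rw [hmem, map_mul, map_mul, map_inv, mem_smul, inv_inv]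
  have hnorm : ∀ g : L, g ∉ normalizer (T : Set L) → P ≠ e₀ g • P := by
    intro g hg heq
    apply hg
    rw [mem_normalizer_iff]
    intro x
    rw [hcj]
    have h1 : (e₀ g)⁻¹ • P = P := by
      conv_lhs => rw [heq]
      rw [inv_smul_smul]
    rw [h1, hmem]
  have hsqT : ∀ t ∈ T, t * t = 1 := by
    intro t ht
    apply e₀.injective
    rw [map_mul, map_one]
    exact sylow_elem P _ ((hmem t).1 ht)
  have hpos : 0 < Fintype.card F₀ := Fintype.card_pos
  have key := ClassTwoFusion.SL2Field.exists_field' (L := L) (V := V) T U ⊥ (fun v w => mul_comm v w) sq faith hU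
    (fun v => ⟨fun h x => by rw [Subgroup.mem_bot.1 h, smul_one], fun h => Subgroup.mem_bot.2 (hbot v h)⟩) hsqT ?_ reg
    ?_ ?_ ?_ ?_ ?_ ?_
  · obtain ⟨F, i1, i2, i3, φ, e, h1, h2, h3, h4, h5, h6, h7⟩ := key
    exact ⟨F, i1, i2, i3, φ, e, h1, h2, h3, fun v => by rw [h4, Subgroup.mem_bot], h5, h6, h7⟩
  · intro t ht v
    by_cases ht1 : t = 1
    · rw [ht1, one_smul, sq]; exact one_mem _
    · apply reg t ht ht1
      rw [smul_mul', ← mul_smul, hsqT t ht, one_smul, mul_comm]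
  · rw [hTc]
    exact Fintype.one_lt_card
  · have h1 := U.card_mul_index
    rw [hcard, hUc, pow_two] at h1
    rw [hTc]
    exact Nat.eq_of_mul_eq_mul_left hpos h1
  · rw [relIndex_bot_left, hUc, hTc]
  · intro K hK
    obtain ⟨P', hP'⟩ := exists_ne_sylow P
    obtain ⟨g, hg⟩ := MulAction.exists_smul_eq (SpecialLinearGroup (Fin 2) F₀) P P'
    have h1 : (⊤ : Subgroup (SpecialLinearGroup (Fin 2) F₀)) ≤ K.map e₀.toMonoidHom := by
      rw [← sylow_sup hP', sup_le_iff]
      constructor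
      · rw [← hTP]
        apply Subgroup.map_mono
        intro t ht
        have := hK 1 t ht
        rwa [one_mul, inv_one, mul_one] at this
      · intro x hx
        rw [← hg] at hx
        have hx' := mem_smul.1 hx
        obtain ⟨l, hl⟩ := e₀.surjective g
        obtain ⟨y, hy⟩ := e₀.surjective (g⁻¹ * x * g)
        have hyT : y ∈ T := (hmem y).2 (by rw [hy]; exact hx')
        refine ⟨l * y * l⁻¹, hK l y hyT, ?_⟩
        change e₀ (l * y * l⁻¹) = x
        rw [map_mul, map_mul, map_inv, hl, hy]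
        group
    rw [eq_top_iff]
    intro x _
    obtain ⟨y, hy, hyx⟩ := h1 (mem_top (e₀ x))
    rwa [← e₀.injective hyx]
  · intro g hg v hv hgv
    rw [Subgroup.mem_bot]
    apply hbot
    -- the stabiliser of `g • v`
    let K : Subgroup L := MulAction.stabilizer L (g • v)
    have hKT : ∀ t ∈ T, t ∈ K := fun t ht => (hU _).1 hgv t ht
    have hKT' : ∀ t ∈ T, g * t * g⁻¹ ∈ K := by
      intro t ht
      change (g * t * g⁻¹) • g • v = g • v
      rw [smul_smul, inv_mul_cancel_right, mul_smul, (hU _).1 hv t ht]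
    have hKtop : (⊤ : Subgroup (SpecialLinearGroup (Fin 2) F₀)) ≤ K.map e₀.toMonoidHom := by
      rw [← sylow_sup (hnorm g hg), sup_le_iff]
      constructor
      · rw [← hTP]
        exact Subgroup.map_mono hKT
      · intro x hx
        have hx' := mem_smul.1 hx
        obtain ⟨y, hy⟩ := e₀.surjective ((e₀ g)⁻¹ * x * e₀ g)
        have hyT : y ∈ T := (hmem y).2 (by rw [hy]; exact hx')
        refine ⟨g * y * g⁻¹, hKT' y hyT, ?_⟩
        change e₀ (g * y * g⁻¹) = x
        rw [map_mul, map_mul, map_inv, hy]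
        group
    intro x
    obtain ⟨y, hy, hyx⟩ := hKtop (mem_top (e₀ x))
    rw [← e₀.injective hyx]
    exact hy
  · intro g hg t ht s hs ht1 hs1
    have h1 : Odd (orderOf (e₀ t * (e₀ g * e₀ s * (e₀ g)⁻¹))) := by
      refine odd_of_sylow (hnorm g hg) ((hmem t).1 ht) (conj_mem_smul ((hmem s).1 hs)) ?_ ?_
      · intro h
        exact ht1 (e₀.injective (by rw [h, map_one]))
      · intro h
        rw [conj_eq_one_iff] at h
        exact hs1 (e₀.injective (by rw [h, map_one]))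
    rw [← map_inv, ← map_mul, ← map_mul, ← map_mul] at h1
    have h2 := orderOf_injective e₀.toMonoidHom e₀.injective (t * (g * s * g⁻¹))
    change orderOf (e₀ (t * (g * s * g⁻¹))) = _ at h2
    rwa [h2] at h1

end Cfsg.Agent.OddCyclic.EmpN
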